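import Groth.Agent.FlatCxLib.Exchange
import Mathlib.RingTheory.Flat.Stability
import Mathlib.RingTheory.Flat.FaithfullyFlat.Basic

/-! Base change of complexes of flat modules. -/

universe u

open CategoryTheory Limits TensorProduct

namespace Groth.Agent.FlatCxLib

variable {A : Type u} [CommRing A] (P : ChainComplex (ModuleCat.{u} A) ℤ)
  {B : Type u} [CommRing B]

lemma flat_coker_bcCx_iff_aux (φ : A →+* B) (p q : ℤ) (inst : Algebra A B)
    (hinst : inst = φ.toAlgebra) :
    letI := inst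
    Module.Flat B (Coker (CohIII.bcCx φ P) p q) ↔ Module.Flat B (B ⊗[A] Coker P p q) := by
  subst hinst
  let := φ.toAlgebra
  let π : B ⊗[A] P.X q →ₗ[B] B ⊗[A] Coker P p q :=
    (LinearMap.range (P.d p q).hom).mkQ.baseChange B
  have hπ : Function.Surjective π :=
    LinearMap.lTensor_surjective B (Submodule.mkQ_surjective _)
  have hker : LinearMap.ker π = LinearMap.range ((P.d p q).hom.baseChange B) :=
    Submodule.ext fun x =>
      lTensor_exact B (P.d p q).hom.exact_map_mkQ_range (Submodule.mkQ_surjective _) x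
  let e : ((B ⊗[A] P.X q) ⧸ LinearMap.range ((P.d p q).hom.baseChange B)) ≃ₗ[B] B ⊗[A] Coker P p q :=
    (Submodule.quotEquivOfEq _ _ hker.symm).trans (π.quotKerEquivOfSurjective hπ)
  exact ⟨fun h => @Module.Flat.of_linearEquiv _ _ _ _ _ _ _ _ h e.symm,
    fun _ => Module.Flat.of_linearEquiv e⟩

variable [Algebra A B]

lemma flat_coker_bcCx_iff (p q : ℤ) :
    Module.Flat B (Coker (CohIII.bcCx (algebraMap A B) P) p q) ↔
      Module.Flat B (B ⊗[A] Coker P p q) :=
  flat_coker_bcCx_iff_aux P (algebraMap A B) p q _ (Algebra.algebra_ext _ _ fun _ => rfl)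

lemma flat_bcCx_X_aux (φ : A →+* B) (hP : ∀ i, Module.Flat A (P.X i)) (i : ℤ) (inst : Algebra A B)
    (hinst : inst = φ.toAlgebra) : Module.Flat B ((CohIII.bcCx φ P).X i) := by
  subst hinst
  let := φ.toAlgebra
  have := hP i
  exact inferInstanceAs (Module.Flat B (B ⊗[A] P.X i))

lemma flat_bcCx_X (hP : ∀ i, Module.Flat A (P.X i)) (i : ℤ) :
    Module.Flat B ((CohIII.bcCx (algebraMap A B) P).X i) :=
  flat_bcCx_X_aux P (algebraMap A B) hP i _ (Algebra.algebra_ext _ _ fun _ => rfl)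

lemma preservesEpi_bcCx_iff (hP : ∀ i, Module.Flat A (P.X i)) {p q : ℤ} (hqp : q + 1 = p) :
    (CohIII.TFun (CohIII.bcCx (algebraMap A B) P) p).PreservesEpimorphisms ↔
      Module.Flat B (B ⊗[A] Coker P p q) :=
  (preservesEpi_iff (flat_bcCx_X P hP) hqp).trans (flat_coker_bcCx_iff P p q)

lemma preservesMono_bcCx_iff (hP : ∀ i, Module.Flat A (P.X i)) {p q : ℤ} (hqp : q + 1 = p) :
    (CohIII.TFun (CohIII.bcCx (algebraMap A B) P) q).PreservesMonomorphisms ↔
      Module.Flat B (B ⊗[A] Coker P p q) :=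
  (preservesMono_iff (flat_bcCx_X P hP) hqp).trans (flat_coker_bcCx_iff P p q)

end Groth.Agent.FlatCxLib
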