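import Groth.Agent.FlatCxLib.Rank
import Groth.Agent.FlatCxLib.BaseChange
import Mathlib.RingTheory.LocalProperties.Reduced
import Mathlib.RingTheory.Flat.Localization
import Mathlib.RingTheory.LocalRing.ResidueField.Ideal

/-! Flatness over reduced rings from constancy of the fibre rank; the open flat locus. -/

universe u

open CategoryTheory Limits TensorProduct

namespace Groth.Agent.FlatCxLib

variable {A : Type u} [CommRing A]

lemma fibreRank_le_of_specializes {M : Type u} [AddCommGroup M] [Module A M] [Module.Finite A M]
    {x y : PrimeSpectrum A} (h : y ⤳ x) : fibreRank M y ≤ fibreRank M x :=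
  Nat.lt_succ_iff.1 (h.mem_open
    (upperSemicontinuous_iff_isOpen_preimage.1 (upperSemicontinuous_fibreRank M) _)
    (Nat.lt_succ_self (fibreRank M x)))

lemma fibreRank_eq_of_specializes {M : Type u} [AddCommGroup M] [Module A M]
    [Module.FinitePresentation A M] [Module.Flat A M] {x y : PrimeSpectrum A} (h : y ⤳ x) :
    fibreRank M y = fibreRank M x :=
  h.mem_open ((isLocallyConstant_fibreRank M).isOpen_fiber _) (Set.mem_singleton _)

/-- Over a reduced local ring a finite module with constant fibre rank is free. -/
lemma free_of_fibreRank_eq [IsLocalRing A] [IsReduced A] (M : Type u) [AddCommGroup M] [Module A M]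
    [Module.Finite A M]
    (h : ∀ q : PrimeSpectrum A, q.asIdeal ∈ minimalPrimes A →
      fibreRank M q = fibreRank M (IsLocalRing.closedPoint A)) : Module.Free A M := by
  classical
  obtain ⟨s, hs1, hs2⟩ := exists_generators_near M (IsLocalRing.closedPoint A)
  have hN : Submodule.span A (s : Set M) = ⊤ := by
    rw [← Submodule.Quotient.subsingleton_iff,
      ← Module.support_eq_empty_iff (R := A)]
    by_contra hne
    obtain ⟨y, hy⟩ := Set.nonempty_iff_ne_empty.2 hne
    exact hs2 ((IsLocalRing.specializes_closedPoint y).mem_closed Module.isClosed_support hy)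
  let f : (s → A) →ₗ[A] M := Fintype.linearCombination A (fun i : s => (i : M))
  have hf : Function.Surjective f := by
    rw [← LinearMap.range_eq_top, Fintype.range_linearCombination]
    simpa using hN
  have hinj : Function.Injective f := by
    rw [injective_iff_map_eq_zero]
    intro a ha
    funext i
    rw [Pi.zero_apply, ← Submodule.mem_bot A]
    have hnil : nilradical A = ⊥ := nilradical_eq_zero A
    rw [← hnil, nilradical, ← Ideal.sInf_minimalPrimes, Submodule.mem_sInf]
    intro (q : Ideal A) hq
    have hqp : q.IsPrime := hq.1.1
    let k := q.ResidueField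
    let g := f.baseChange k
    have hg : Function.Surjective g := LinearMap.lTensor_surjective k hf
    have hd : Module.finrank k (k ⊗[A] (s → A)) = s.card := by
      rw [Module.finrank_baseChange, Module.finrank_pi, Fintype.card_coe]
    have hle : s.card ≤ Module.finrank k (k ⊗[A] M) := by
      have := h ⟨q, hqp⟩ hq
      unfold fibreRank at this hs1
      exact hs1.trans this.ge
    have hgi : Function.Injective g := by
      rw [← LinearMap.ker_eq_bot, ← Submodule.finrank_eq_zero]
      have h1 := LinearMap.finrank_range_add_finrank_ker g
      rw [LinearMap.range_eq_top.2 hg, finrank_top, hd] at h1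
      omega
    have h0 : (1 : k) ⊗ₜ[A] a = 0 := by
      refine hgi ?_
      rw [map_zero, LinearMap.baseChange_tmul, ha, TensorProduct.tmul_zero]
    have h2 := congrArg (TensorProduct.rid A k ∘ (LinearMap.proj i : (s → A) →ₗ[A] A).lTensor k) h0
    simp only [Function.comp_apply, LinearMap.lTensor_tmul, LinearMap.proj_apply,
      TensorProduct.rid_tmul, map_zero] at h2
    rw [Algebra.smul_def, mul_one, Ideal.algebraMap_residueField_eq_zero] at h2
    exact h2
  exact Module.Free.of_equiv (LinearEquiv.ofBijective f ⟨hinj, hf⟩)

lemma fibreRank_baseChange {B : Type u} [CommRing B] [Algebra A B] (M : Type u) [AddCommGroup M]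
    [Module A M] (y : PrimeSpectrum B) :
    fibreRank (B ⊗[A] M) y = fibreRank M (PrimeSpectrum.comap (algebraMap A B) y) := by
  let x := PrimeSpectrum.comap (algebraMap A B) y
  let k := x.asIdeal.ResidueField
  let k' := y.asIdeal.ResidueField
  let ι : k →+* k' := Ideal.ResidueField.map x.asIdeal y.asIdeal (algebraMap A B) rfl
  let := ι.toAlgebra
  have : IsScalarTower A k k' := IsScalarTower.of_algebraMap_eq' (RingHom.ext fun a =>
    ((Ideal.ResidueField.map_algebraMap x.asIdeal y.asIdeal (algebraMap A B) rfl a).trans
      (IsScalarTower.algebraMap_apply A B k' a).symm).symm)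
  let e : k' ⊗[B] (B ⊗[A] M) ≃ₗ[k'] k' ⊗[k] (k ⊗[A] M) :=
    (AlgebraTensorModule.cancelBaseChange A B k' k' M).trans
      (AlgebraTensorModule.cancelBaseChange A k k' k' M).symm
  exact e.finrank_eq.trans Module.finrank_baseChange

/-- Over a reduced ring a finite module whose fibre rank is constant along specializations is
flat. -/
lemma flat_of_fibreRank_eq_of_specializes [IsReduced A] (M : Type u) [AddCommGroup M] [Module A M]
    [Module.Finite A M]
    (h : ∀ x y : PrimeSpectrum A, y ⤳ x → fibreRank M y = fibreRank M x) : Module.Flat A M := by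
  refine Module.flat_of_localized_maximal M fun P _ => ?_
  let R := Localization.AtPrime P
  have : Module.Free R (R ⊗[A] M) := free_of_fibreRank_eq (A := R) (R ⊗[A] M) fun q _ => by
    rw [fibreRank_baseChange, fibreRank_baseChange]
    exact h _ _ ((IsLocalRing.specializes_closedPoint q).map
      (PrimeSpectrum.continuous_comap (algebraMap A R)))
  have : Module.Flat A (R ⊗[A] M) := Module.Flat.trans A R _
  exact Module.Flat.of_linearEquiv
    ((LocalizedModule.equivTensorProduct P.primeCompl M).restrictScalars A)

/-- Over a reduced ring a finitely presented module with locally constant fibre rank is flat. -/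
lemma flat_of_isLocallyConstant_fibreRank [IsReduced A] (M : Type u) [AddCommGroup M] [Module A M]
    [Module.Finite A M] (h : IsLocallyConstant (fibreRank (A := A) M)) : Module.Flat A M :=
  flat_of_fibreRank_eq_of_specializes M fun _ _ hs =>
    hs.mem_open (h.isOpen_fiber _) (Set.mem_singleton _)

lemma flat_localization_iff_mem_freeLocus (M : Type u) [AddCommGroup M] [Module A M]
    [Module.FinitePresentation A M] (y : PrimeSpectrum A) :
    Module.Flat (Localization.AtPrime y.asIdeal) (Localization.AtPrime y.asIdeal ⊗[A] M) ↔
      y ∈ Module.freeLocus A M := by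
  rw [Module.mem_freeLocus_iff_tensor y (Localization.AtPrime y.asIdeal)]
  exact ⟨fun _ => Module.free_of_flat_of_isLocalRing, fun _ => inferInstance⟩

end Groth.Agent.FlatCxLib
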