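import Groth.Agent.FlatCxLib.Structure
import Mathlib.RingTheory.LocalRing.Module
import Mathlib.Algebra.Homology.Linear
import Mathlib.Algebra.Homology.ShortComplex.Linear

/-! Complexes of finite flat modules over a local ring; linearity; exactness criteria. -/

universe u

open CategoryTheory Limits TensorProduct

namespace Groth.Agent.FlatCxLib

variable {A : Type u} [CommRing A] {P : ChainComplex (ModuleCat.{u} A) ℤ}

lemma tensorMap_smul_id (M : ModuleCat.{u} A) (a : A) :
    CohIII.tensorMap P (ModuleCat.ofHom (a • LinearMap.id : M →ₗ[A] M)) =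
      a • 𝟙 (CohIII.tensorObj P M) :=
  HomologicalComplex.hom_ext _ _ fun i => ModuleCat.hom_ext
    ((LinearMap.lTensor_smul (P.X i) a LinearMap.id).trans
      (congrArg (a • ·) (LinearMap.lTensor_id (P.X i) M)))

lemma homologyMap_smul_id {ι : Type} {c : ComplexShape ι}
    (K : HomologicalComplex (ModuleCat.{u} A) c) (a : A) (i : ι) :
    HomologicalComplex.homologyMap (a • 𝟙 K) i = a • 𝟙 (K.homology i) := by
  have e : (HomologicalComplex.shortComplexFunctor (ModuleCat.{u} A) c i).map (a • 𝟙 K) =
      a • 𝟙 (K.sc i) := ShortComplex.hom_ext _ _ rfl rfl rfl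
  exact (congrArg (fun φ : K.sc i ⟶ K.sc i => ShortComplex.homologyMap φ) e).trans
    ((ShortComplex.homologyMap_smul (R := A) (S₁ := K.sc i) (S₂ := K.sc i) (𝟙 (K.sc i)) a).trans
      (congrArg (a • ·) (ShortComplex.homologyMap_id (K.sc i))))

lemma tfun_map_smul (q : ℤ) (M : ModuleCat.{u} A) (a : A) (x : CohIII.T P q M) :
    ((CohIII.TFun P q).map (ModuleCat.ofHom (a • LinearMap.id : M →ₗ[A] M))).hom x = a • x := by
  have h : (CohIII.TFun P q).map (ModuleCat.ofHom (a • LinearMap.id : M →ₗ[A] M)) =
      a • 𝟙 ((CohIII.tensorObj P M).homology q) :=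
    (congrArg (fun φ => HomologicalComplex.homologyMap φ q) (tensorMap_smul_id M a)).trans
      (homologyMap_smul_id (CohIII.tensorObj P M) a q)
  rw [h]
  rfl

lemma tfun_smul_injective {q : ℤ} (h : (CohIII.TFun P q).PreservesMonomorphisms) (M : ModuleCat.{u} A)
    (a : A) (ha : Function.Injective fun x : M => a • x) :
    Function.Injective fun y : CohIII.T P q M => a • y := by
  have : Mono (ModuleCat.ofHom (a • LinearMap.id : M →ₗ[A] M)) :=
    (ModuleCat.mono_iff_injective _).2 ha
  have h' := (ModuleCat.mono_iff_injective _).1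
    (h.preserves (ModuleCat.ofHom (a • LinearMap.id : M →ₗ[A] M)))
  intro y y' hy
  exact h' ((tfun_map_smul q M a y).trans (hy.trans (tfun_map_smul q M a y').symm))

lemma exact_iff (hP : ∀ i, Module.Flat A (P.X i)) {p q r : ℤ} (hqp : q + 1 = p) (hrq : r + 1 = q) :
    ((CohIII.TFun P q).PreservesMonomorphisms ∧ (CohIII.TFun P q).PreservesEpimorphisms) ↔
      ((CohIII.TFun P q).PreservesEpimorphisms ∧
        Module.Flat A (CohIII.T P q (ModuleCat.of A A))) := by
  rw [preservesMono_iff hP hqp, preservesEpi_iff hP hrq]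
  constructor
  · rintro ⟨h1, h2⟩
    have := (flat_coker_iff P p q r hP).1 h1
    exact ⟨h2, Module.Flat.of_linearEquiv (hom'EquivT hqp hrq).symm⟩
  · rintro ⟨h2, h1⟩
    exact ⟨(flat_coker_iff P p q r hP).2 (Module.Flat.of_linearEquiv (hom'EquivT hqp hrq)), h2⟩

lemma finite_hom' [IsNoetherianRing A] (hfin : ∀ i, Module.Finite A (P.X i)) (p q r : ℤ) :
    Module.Finite A (Hom' P p q r) := by
  have := hfin q
  infer_instance

variable [IsLocalRing A]

lemma isZero_of_isZero_residue [IsNoetherianRing A] (hP : ∀ i, Module.Flat A (P.X i))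
    (hfin : ∀ i, Module.Finite A (P.X i)) {q : ℤ}
    (hk : IsZero ((CohIII.TFun P q).obj (ModuleCat.of A (IsLocalRing.ResidueField A)))) :
    (CohIII.TFun P q).PreservesEpimorphisms ∧ ∀ M, IsZero ((CohIII.TFun P q).obj M) := by
  have hsub : Subsingleton ((CohIII.TFun P q).obj (ModuleCat.of A (IsLocalRing.ResidueField A))) :=
    ModuleCat.isZero_iff_subsingleton.1 hk
  have he : (CohIII.TFun P q).PreservesEpimorphisms :=
    (preservesEpi_iff_surjective_residue hP hfin).2 fun y => ⟨0, Subsingleton.elim _ _⟩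
  have hr : q - 1 + 1 = q := by lia
  have := (preservesEpi_iff hP hr).1 he
  refine ⟨he, ?_⟩
  let H := Hom' P (q + 1) q (q - 1)
  have : Module.Finite A H := finite_hom' hfin _ _ _
  let e := fun M => hom'TensorEquiv hP (show q + 1 = q + 1 from rfl) hr M
  have hH : Subsingleton H := by
    have h1 : Subsingleton (H ⊗[A] IsLocalRing.ResidueField A) :=
      (e (ModuleCat.of A (IsLocalRing.ResidueField A))).toEquiv.subsingleton_congr.2 hsub
    have h2 : Subsingleton (IsLocalRing.ResidueField A ⊗[A] H) :=
      (TensorProduct.comm A _ _).toEquiv.subsingleton_congr.2 h1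
    exact IsLocalRing.subsingleton_tensorProduct.1 h2
  intro M
  refine ModuleCat.isZero_iff_subsingleton.2 ?_
  have : Subsingleton (H ⊗[A] M) := by
    refine subsingleton_of_forall_eq 0 fun x => ?_
    induction x using TensorProduct.induction_on with
    | zero => rfl
    | tmul h m => rw [Subsingleton.elim h 0, TensorProduct.zero_tmul]
    | add a b ha hb => rw [ha, hb, add_zero]
  exact (e M).symm.toEquiv.subsingleton

end Groth.Agent.FlatCxLib
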