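import Mathlib.Algebra.Homology.ShortComplex.ModuleCat
import Mathlib.Algebra.Homology.ShortComplex.HomologicalComplex
import Mathlib.Algebra.Category.ModuleCat.EpiMono

/-! Homology classes of cycles in complexes of modules. -/

universe v u

open CategoryTheory Limits

namespace Groth.Agent.FlatCxLib

variable {R : Type u} [Ring R] {ι : Type*} {c : ComplexShape ι}
  (K : HomologicalComplex (ModuleCat.{v} R) c) (i j k : ι)

/-- Cycles as a submodule. -/
noncomputable def clsHom (hk : c.next j = k) :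
    ModuleCat.of R (LinearMap.ker (K.d j k).hom) ⟶ K.homology j :=
  K.liftCycles (ModuleCat.ofHom (LinearMap.ker (K.d j k).hom).subtype) k hk
    (ModuleCat.hom_ext (LinearMap.ext fun x => x.2)) ≫ K.homologyπ j

/-- The class of a cycle. -/
noncomputable def cls (hk : c.next j = k) (x : K.X j) (hx : (K.d j k).hom x = 0) : K.homology j :=
  (clsHom K j k hk).hom ⟨x, hx⟩

variable {K i j k}

lemma iCycles_lift (hk : c.next j = k) (x : LinearMap.ker (K.d j k).hom) :
    (K.iCycles j).hom ((K.liftCycles (ModuleCat.ofHom (LinearMap.ker (K.d j k).hom).subtype) k hk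
      (ModuleCat.hom_ext (LinearMap.ext fun x => x.2))).hom x) = (x : K.X j) :=
  LinearMap.congr_fun (ModuleCat.hom_ext_iff.1
    (K.liftCycles_i (ModuleCat.ofHom (LinearMap.ker (K.d j k).hom).subtype) k hk
      (ModuleCat.hom_ext (LinearMap.ext fun x => x.2)))) x

lemma cls_surjective (hk : c.next j = k) (h : K.homology j) :
    ∃ (x : K.X j) (hx : (K.d j k).hom x = 0), cls K j k hk x hx = h := by
  obtain ⟨z, rfl⟩ := (ModuleCat.epi_iff_surjective (K.homologyπ j)).1 inferInstance h
  have hz : (K.d j k).hom ((K.iCycles j).hom z) = 0 :=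
    LinearMap.congr_fun (ModuleCat.hom_ext_iff.1 (K.iCycles_d j k)) z
  refine ⟨(K.iCycles j).hom z, hz, ?_⟩
  have hinj : Function.Injective (K.iCycles j).hom :=
    (ModuleCat.mono_iff_injective _).1 inferInstance
  exact congrArg (K.homologyπ j).hom (hinj (iCycles_lift hk ⟨_, hz⟩))

lemma cls_eq_zero_iff (hi : c.prev j = i) (hk : c.next j = k) (x : K.X j)
    (hx : (K.d j k).hom x = 0) :
    cls K j k hk x hx = 0 ↔ x ∈ LinearMap.range (K.d i j).hom := by
  have hex : (ShortComplex.mk (K.toCycles i j) (K.homologyπ j)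
      (K.toCycles_comp_homologyπ i j)).Exact :=
    ShortComplex.exact_of_g_is_cokernel _ (K.homologyIsCokernel i j hi)
  have hex' := (ShortComplex.moduleCat_exact_iff _).1 hex
  have hd : ∀ w, (K.iCycles j).hom ((K.toCycles i j).hom w) = (K.d i j).hom w :=
    fun w => LinearMap.congr_fun (ModuleCat.hom_ext_iff.1 (K.toCycles_i i j)) w
  constructor
  · intro h
    obtain ⟨w, hw⟩ := hex' _ h
    exact ⟨w, ((hd w).symm.trans (congrArg (K.iCycles j).hom hw)).trans (iCycles_lift hk ⟨x, hx⟩)⟩
  · rintro ⟨w, hw⟩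
    have hinj : Function.Injective (K.iCycles j).hom :=
      (ModuleCat.mono_iff_injective _).1 inferInstance
    have e : (K.toCycles i j).hom w = (K.liftCycles (ModuleCat.ofHom
        (LinearMap.ker (K.d j k).hom).subtype) k hk
        (ModuleCat.hom_ext (LinearMap.ext fun x => x.2))).hom ⟨x, hx⟩ :=
      hinj ((hd w).trans (hw.trans (iCycles_lift hk ⟨x, hx⟩).symm))
    exact ((congrArg (K.homologyπ j).hom e).symm).trans
      (LinearMap.congr_fun (ModuleCat.hom_ext_iff.1 (K.toCycles_comp_homologyπ i j)) w)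

lemma cls_sub (hk : c.next j = k) (x y : K.X j) (hx : (K.d j k).hom x = 0)
    (hy : (K.d j k).hom y = 0) :
    cls K j k hk (x - y) (by rw [map_sub, hx, hy, sub_zero]) = cls K j k hk x hx - cls K j k hk y hy :=
  map_sub (clsHom K j k hk).hom ⟨x, hx⟩ ⟨y, hy⟩

lemma cls_eq_iff (hi : c.prev j = i) (hk : c.next j = k) (x y : K.X j)
    (hx : (K.d j k).hom x = 0) (hy : (K.d j k).hom y = 0) :
    cls K j k hk x hx = cls K j k hk y hy ↔ x - y ∈ LinearMap.range (K.d i j).hom := by
  rw [← sub_eq_zero, ← cls_sub, cls_eq_zero_iff hi hk]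

lemma cycle_map {L : HomologicalComplex (ModuleCat.{v} R) c} (φ : K ⟶ L) (x : K.X j)
    (hx : (K.d j k).hom x = 0) : (L.d j k).hom ((φ.f j).hom x) = 0 :=
  (LinearMap.congr_fun (ModuleCat.hom_ext_iff.1 (φ.comm j k)) x).trans
    ((congrArg (φ.f k).hom hx).trans (map_zero _))

lemma homologyMap_cls {L : HomologicalComplex (ModuleCat.{v} R) c} (φ : K ⟶ L) (hk : c.next j = k)
    (x : K.X j) (hx : (K.d j k).hom x = 0) :
    (HomologicalComplex.homologyMap φ j).hom (cls K j k hk x hx) =
      cls L j k hk ((φ.f j).hom x) (cycle_map φ x hx) := by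
  refine (LinearMap.congr_fun (ModuleCat.hom_ext_iff.1
    (HomologicalComplex.homologyπ_naturality φ j)) _).trans ?_
  refine congrArg (L.homologyπ j).hom ?_
  have hinj : Function.Injective (L.iCycles j).hom :=
    (ModuleCat.mono_iff_injective _).1 inferInstance
  refine hinj ?_
  refine (LinearMap.congr_fun (ModuleCat.hom_ext_iff.1
    (HomologicalComplex.cyclesMap_i φ j)) _).trans ?_
  exact (congrArg (φ.f j).hom (iCycles_lift hk ⟨x, hx⟩)).trans
    (iCycles_lift hk ⟨(φ.f j).hom x, cycle_map φ x hx⟩).symm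

lemma homologyMap_injective_iff {L : HomologicalComplex (ModuleCat.{v} R) c} (φ : K ⟶ L)
    (hi : c.prev j = i) (hk : c.next j = k) :
    Function.Injective (HomologicalComplex.homologyMap φ j).hom ↔
      ∀ x : K.X j, (K.d j k).hom x = 0 → (φ.f j).hom x ∈ LinearMap.range (L.d i j).hom →
        x ∈ LinearMap.range (K.d i j).hom := by
  rw [injective_iff_map_eq_zero]
  constructor
  · intro h x hx hr
    rw [← cls_eq_zero_iff hi hk x hx]
    refine h _ ?_
    rw [homologyMap_cls, cls_eq_zero_iff hi hk]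
    exact hr
  · intro h a ha
    obtain ⟨x, hx, rfl⟩ := cls_surjective hk a
    rw [homologyMap_cls, cls_eq_zero_iff hi hk] at ha
    exact (cls_eq_zero_iff hi hk x hx).2 (h x hx ha)

lemma homologyMap_surjective_iff {L : HomologicalComplex (ModuleCat.{v} R) c} (φ : K ⟶ L)
    (hi : c.prev j = i) (hk : c.next j = k) :
    Function.Surjective (HomologicalComplex.homologyMap φ j).hom ↔
      ∀ y : L.X j, (L.d j k).hom y = 0 → ∃ x : K.X j, (K.d j k).hom x = 0 ∧
        (φ.f j).hom x - y ∈ LinearMap.range (L.d i j).hom := by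
  constructor
  · intro h y hy
    obtain ⟨a, ha⟩ := h (cls L j k hk y hy)
    obtain ⟨x, hx, rfl⟩ := cls_surjective hk a
    rw [homologyMap_cls, cls_eq_iff hi hk] at ha
    exact ⟨x, hx, ha⟩
  · intro h b
    obtain ⟨y, hy, rfl⟩ := cls_surjective hk b
    obtain ⟨x, hx, hr⟩ := h y hy
    exact ⟨cls K j k hk x hx, by rw [homologyMap_cls, cls_eq_iff hi hk]; exact hr⟩

lemma isZero_homology_iff (hi : c.prev j = i) (hk : c.next j = k) :
    IsZero (K.homology j) ↔ ∀ x : K.X j, (K.d j k).hom x = 0 →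
      x ∈ LinearMap.range (K.d i j).hom := by
  rw [ModuleCat.isZero_iff_subsingleton]
  constructor
  · intro h x hx
    exact (cls_eq_zero_iff hi hk x hx).1 (Subsingleton.elim _ _)
  · intro h
    refine subsingleton_of_forall_eq 0 fun a => ?_
    obtain ⟨x, hx, rfl⟩ := cls_surjective hk a
    exact (cls_eq_zero_iff hi hk x hx).2 (h x hx)

end Groth.Agent.FlatCxLib
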