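import Groth.Prelude.Def_ega3
import Groth.Agent.FlatCxLib.Cls
import Mathlib.RingTheory.Flat.Basic
import Mathlib.RingTheory.LocalRing.Module
import Mathlib.LinearAlgebra.TensorProduct.RightExactness
import Mathlib.Algebra.Homology.HomologySequence
import Mathlib.Algebra.Category.ModuleCat.Kernels

/-! The functors `M ↦ H_p(P ⊗ M)` of a flat complex: exchange property. -/

universe u

open CategoryTheory Limits TensorProduct

namespace Groth.Agent.FlatCxLib

variable {A : Type u} [CommRing A] (P : ChainComplex (ModuleCat.{u} A) ℤ)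

lemma next_down {p q : ℤ} (h : q + 1 = p) : (ComplexShape.down ℤ).next p = q :=
  (ComplexShape.down ℤ).next_eq' h

lemma prev_down {p q : ℤ} (h : q + 1 = p) : (ComplexShape.down ℤ).prev q = p :=
  (ComplexShape.down ℤ).prev_eq' h

/-- The cokernel `W_q` of `P_p → P_q`. -/
abbrev Coker (p q : ℤ) : Type u := P.X q ⧸ LinearMap.range (P.d p q).hom

lemma tfun_map_injective_iff {p q r : ℤ} (hqp : q + 1 = p) (hrq : r + 1 = q) {M N : ModuleCat.{u} A}
    (f : M ⟶ N) : Function.Injective ((CohIII.TFun P q).map f).hom ↔
      ∀ x : P.X q ⊗[A] M, ((P.d q r).hom.rTensor M) x = 0 →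
        (f.hom.lTensor (P.X q)) x ∈ LinearMap.range ((P.d p q).hom.rTensor N) →
          x ∈ LinearMap.range ((P.d p q).hom.rTensor M) :=
  homologyMap_injective_iff (CohIII.tensorMap P f) (prev_down hqp) (next_down hrq)

lemma tfun_map_surjective_iff {p q r : ℤ} (hqp : q + 1 = p) (hrq : r + 1 = q)
    {M N : ModuleCat.{u} A} (f : M ⟶ N) : Function.Surjective ((CohIII.TFun P q).map f).hom ↔
      ∀ y : P.X q ⊗[A] N, ((P.d q r).hom.rTensor N) y = 0 →
        ∃ x : P.X q ⊗[A] M, ((P.d q r).hom.rTensor M) x = 0 ∧
          (f.hom.lTensor (P.X q)) x - y ∈ LinearMap.range ((P.d p q).hom.rTensor N) :=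
  homologyMap_surjective_iff (CohIII.tensorMap P f) (prev_down hqp) (next_down hrq)

variable {P}

lemma lTensor_rTensor_comm {M N X Y : Type u} [AddCommGroup M] [Module A M] [AddCommGroup N]
    [Module A N] [AddCommGroup X] [Module A X] [AddCommGroup Y] [Module A Y]
    (f : M →ₗ[A] N) (g : X →ₗ[A] Y) (z : X ⊗[A] M) :
    f.lTensor Y (g.rTensor M z) = g.rTensor N (f.lTensor X z) := by
  induction z using TensorProduct.induction_on with
  | zero => simp
  | tmul x m => simp
  | add a b ha hb => simp [ha, hb]

lemma lTensor_coker_injective_iff {p q : ℤ} {M N : Type u} [AddCommGroup M] [Module A M]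
    [AddCommGroup N] [Module A N] (f : M →ₗ[A] N) :
    Function.Injective (f.lTensor (Coker P p q)) ↔
      ∀ x : P.X q ⊗[A] M, (f.lTensor (P.X q)) x ∈ LinearMap.range ((P.d p q).hom.rTensor N) →
          x ∈ LinearMap.range ((P.d p q).hom.rTensor M) := by
  have eM := rTensor_exact M (P.d p q).hom.exact_map_mkQ_range (Submodule.mkQ_surjective _)
  have eN := rTensor_exact N (P.d p q).hom.exact_map_mkQ_range (Submodule.mkQ_surjective _)
  let π := (LinearMap.range (P.d p q).hom).mkQ
  have hc : ∀ x, (f.lTensor (Coker P p q)) ((π.rTensor M) x) = (π.rTensor N) (f.lTensor (P.X q) x) :=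
    fun x => lTensor_rTensor_comm f π x
  rw [injective_iff_map_eq_zero]
  constructor
  · intro h x hx
    exact (eM x).1 (h _ ((hc x).trans ((eN _).2 hx)))
  · intro h a ha
    obtain ⟨x, rfl⟩ := LinearMap.rTensor_surjective M (Submodule.mkQ_surjective _) a
    exact (eM x).2 (h x ((eN _).1 ((hc x).symm.trans ha)))

lemma preservesMono_iff (hP : ∀ i, Module.Flat A (P.X i)) {p q : ℤ} (hqp : q + 1 = p) :
    (CohIII.TFun P q).PreservesMonomorphisms ↔ Module.Flat A (Coker P p q) := by
  have hrq : q - 1 + 1 = q := by lia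
  rw [Module.Flat.iff_lTensor_preserves_injective_linearMap]
  constructor
  · intro h M N _ _ _ _ f hf
    have : Mono (ModuleCat.ofHom f) := (ModuleCat.mono_iff_injective _).2 hf
    have hmap := (ModuleCat.mono_iff_injective _).1 (h.preserves (ModuleCat.ofHom f))
    rw [tfun_map_injective_iff P hqp hrq] at hmap
    rw [lTensor_coker_injective_iff]
    intro x hx
    refine hmap x ?_ hx
    refine Module.Flat.lTensor_preserves_injective_linearMap (M := P.X (q - 1)) f hf ?_
    obtain ⟨w, hw⟩ := hx
    have e : ∀ z, (f.lTensor (P.X (q - 1))) ((P.d q (q - 1)).hom.rTensor M z) =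
        (P.d q (q - 1)).hom.rTensor N (f.lTensor (P.X q) z) := fun z =>
      lTensor_rTensor_comm f _ z
    refine (e x).trans (Eq.trans ?_ (map_zero _).symm)
    erw [← hw, ← LinearMap.comp_apply, ← LinearMap.rTensor_comp]
    have hdd : (P.d q (q - 1)).hom ∘ₗ (P.d p q).hom = 0 :=
      ModuleCat.hom_ext_iff.1 (P.d_comp_d p q (q - 1))
    rw [hdd, LinearMap.rTensor_zero]
    rfl
  · intro h
    refine ⟨fun {M N} f _ => ?_⟩
    rw [ModuleCat.mono_iff_injective, tfun_map_injective_iff P hqp hrq]
    intro x _ hx
    exact (lTensor_coker_injective_iff f.hom).1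
      (h f.hom ((ModuleCat.mono_iff_injective _).1 inferInstance)) x hx

variable (P)

/-- `M ↦ P ⊗ M`. -/
noncomputable def tensorSC (S : ShortComplex (ModuleCat.{u} A)) :
    ShortComplex (ChainComplex (ModuleCat.{u} A) ℤ) :=
  ShortComplex.mk (CohIII.tensorMap P S.f) (CohIII.tensorMap P S.g) (by
    ext i : 2
    change S.g.hom.lTensor (P.X i) ∘ₗ S.f.hom.lTensor (P.X i) = _
    rw [← LinearMap.lTensor_comp, show S.g.hom ∘ₗ S.f.hom = 0 from ModuleCat.hom_ext_iff.1 S.zero,
      LinearMap.lTensor_zero]
    rfl)

variable {P}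

lemma shortExact_tensorSC (hP : ∀ i, Module.Flat A (P.X i)) {S : ShortComplex (ModuleCat.{u} A)}
    (hS : S.ShortExact) : (tensorSC P S).ShortExact :=
  HomologicalComplex.shortExact_of_degreewise_shortExact _ fun i =>
    { exact := (ShortComplex.moduleCat_exact_iff _).2 fun x hx =>
        (lTensor_exact (P.X i) ((ShortComplex.ShortExact.moduleCat_exact_iff_function_exact S).1 hS.exact) hS.moduleCat_surjective_g x).1 hx
      mono_f := (ModuleCat.mono_iff_injective _).2
        (Module.Flat.lTensor_preserves_injective_linearMap (M := P.X i) S.f.hom hS.moduleCat_injective_f)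
      epi_g := (ModuleCat.epi_iff_surjective _).2
        (LinearMap.lTensor_surjective _ hS.moduleCat_surjective_g) }

/-- Half exactness. -/
lemma map_exact (hP : ∀ i, Module.Flat A (P.X i)) {S : ShortComplex (ModuleCat.{u} A)}
    (hS : S.ShortExact) (q : ℤ) (w) :
    (ShortComplex.mk ((CohIII.TFun P q).map S.f) ((CohIII.TFun P q).map S.g) w).Exact :=
  (shortExact_tensorSC hP hS).homology_exact₂ q

lemma preservesEpi_iff_preservesMono (hP : ∀ i, Module.Flat A (P.X i)) {p q : ℤ} (hqp : q + 1 = p) :
    (CohIII.TFun P p).PreservesEpimorphisms ↔ (CohIII.TFun P q).PreservesMonomorphisms := by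
  constructor
  · intro h
    refine ⟨fun {M N} f _ => ?_⟩
    have hS : (ShortComplex.mk f (cokernel.π f) (cokernel.condition f)).ShortExact :=
      { exact := ShortComplex.exact_cokernel f }
    have hT := shortExact_tensorSC hP hS
    have : Epi (HomologicalComplex.homologyMap (tensorSC P (ShortComplex.mk f (cokernel.π f)
        (cokernel.condition f))).g p) := h.preserves (cokernel.π f)
    have hδ : hT.δ p q hqp = 0 := by
      exact (cancel_epi (HomologicalComplex.homologyMap (tensorSC P (ShortComplex.mk f (cokernel.π f)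
        (cokernel.condition f))).g p)).1 ((hT.comp_δ p q hqp).trans comp_zero.symm)
    exact (hT.homology_exact₁ p q hqp).mono_g hδ
  · intro h
    refine ⟨fun {M N} g _ => ?_⟩
    have hS : (ShortComplex.mk (kernel.ι g) g (kernel.condition g)).ShortExact :=
      { exact := ShortComplex.exact_kernel g }
    have hT := shortExact_tensorSC hP hS
    have : Mono (HomologicalComplex.homologyMap (tensorSC P (ShortComplex.mk (kernel.ι g) g
        (kernel.condition g))).f q) := h.preserves (kernel.ι g)
    have hδ : hT.δ p q hqp = 0 := by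
      exact (cancel_mono (HomologicalComplex.homologyMap (tensorSC P (ShortComplex.mk (kernel.ι g) g
        (kernel.condition g))).f q)).1 ((hT.δ_comp p q hqp).trans zero_comp.symm)
    exact (hT.homology_exact₃ p q hqp).epi_f hδ

lemma preservesEpi_iff (hP : ∀ i, Module.Flat A (P.X i)) {p q : ℤ} (hqp : q + 1 = p) :
    (CohIII.TFun P p).PreservesEpimorphisms ↔ Module.Flat A (Coker P p q) :=
  (preservesEpi_iff_preservesMono hP hqp).trans (preservesMono_iff hP hqp)

lemma surjective_map_of_preservesEpi {p : ℤ} (h : (CohIII.TFun P p).PreservesEpimorphisms)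
    {M N : ModuleCat.{u} A} (f : M ⟶ N) (hf : Function.Surjective f.hom) :
    Function.Surjective ((CohIII.TFun P p).map f).hom :=
  (ModuleCat.epi_iff_surjective _).1 (@Functor.PreservesEpimorphisms.preserves _ _ _ _ _ h _ _ f
    ((ModuleCat.epi_iff_surjective f).2 hf))

/-- The cokernel computes the opcycles. -/
noncomputable def cokerEquivOpcycles {p q : ℤ} (hqp : q + 1 = p) :
    Coker P p q ≃ₗ[A] P.opcycles q :=
  ((ModuleCat.cokernelIsoRangeQuotient (P.d p q)).symm ≪≫
    (cokernelIsCokernel (P.d p q)).coconePointUniqueUpToIso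
      (P.opcyclesIsCokernel p q (prev_down hqp))).toLinearEquiv

section Local

variable [IsLocalRing A]

/-- The exchange criterion at the residue field. -/
lemma free_coker_of_surjective_residue (hP : ∀ i, Module.Flat A (P.X i)) {p q : ℤ}
    (hqp : q + 1 = p) [Module.Finite A (P.X p)] [Module.Finite A (P.X q)]
    (h : Function.Surjective ((CohIII.TFun P p).map
      (ModuleCat.ofHom (Algebra.linearMap A (IsLocalRing.ResidueField A)))).hom) :
    Module.Free A (Coker P p q) := by
  have := hP q
  have : Module.Free A (P.X q) := Module.free_of_flat_of_isLocalRing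
  let k := IsLocalRing.ResidueField A
  let u : P.X p →ₗ[A] P.X q := (P.d p q).hom
  let i := (LinearMap.range u).subtype
  have : Module.Finite A (LinearMap.range u) :=
    Module.Finite.of_surjective u.rangeRestrict u.surjective_rangeRestrict
  rw [tfun_map_surjective_iff P (show p + 1 = p + 1 from rfl) hqp] at h
  refine Module.free_of_lTensor_residueField_injective i (LinearMap.range u).mkQ
    (Submodule.mkQ_surjective _) (LinearMap.exact_subtype_mkQ _) ?_
  rw [LinearMap.lTensor_inj_iff_rTensor_inj, injective_iff_map_eq_zero]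
  intro y hy
  obtain ⟨x, rfl⟩ := LinearMap.rTensor_surjective k u.surjective_rangeRestrict y
  have hc : ∀ (M : Type u) [AddCommGroup M] [Module A M] (z : P.X p ⊗[A] M),
      i.rTensor M (u.rangeRestrict.rTensor M z) = u.rTensor M z := fun M _ _ z => by
    rw [← LinearMap.comp_apply, ← LinearMap.rTensor_comp]; rfl
  rw [hc] at hy
  obtain ⟨z, hz, w, hw⟩ := h x hy
  let l : A →ₗ[A] k := Algebra.linearMap A k
  have hz' : u.rangeRestrict.rTensor A z = 0 := by
    refine Module.Flat.rTensor_preserves_injective_linearMap (M := A) i Subtype.val_injective ?_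
    exact ((hc A z).trans hz).trans (map_zero _).symm
  have hrr : u.rangeRestrict ∘ₗ (P.d (p + 1) p).hom = 0 := by
    refine LinearMap.ext fun a => Subtype.ext ?_
    exact LinearMap.congr_fun (ModuleCat.hom_ext_iff.1 (P.d_comp_d (p + 1) p q)) a
  have h1 : u.rangeRestrict.rTensor k ((l.lTensor (P.X p)) z) = 0 := by
    have e : u.rangeRestrict.rTensor k ((l.lTensor (P.X p)) z) =
        l.lTensor (LinearMap.range u) (u.rangeRestrict.rTensor A z) :=
      (lTensor_rTensor_comm l u.rangeRestrict z).symm
    exact e.trans ((congrArg _ hz').trans (map_zero _))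
  have h2 : u.rangeRestrict.rTensor k ((P.d (p + 1) p).hom.rTensor k w) = 0 := by
    rw [← LinearMap.comp_apply, ← LinearMap.rTensor_comp, hrr, LinearMap.rTensor_zero]
    rfl
  have hx : x = (l.lTensor (P.X p)) z - (P.d (p + 1) p).hom.rTensor k w := by
    have hw' : (P.d (p + 1) p).hom.rTensor k w = (l.lTensor (P.X p)) z - x := hw
    rw [hw', sub_sub_cancel]
  rw [hx, map_sub, h1, h2, sub_zero]

lemma preservesEpi_iff_surjective_residue (hP : ∀ i, Module.Flat A (P.X i)) {p : ℤ}
    (hfin : ∀ i, Module.Finite A (P.X i)) :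
    (CohIII.TFun P p).PreservesEpimorphisms ↔ Function.Surjective ((CohIII.TFun P p).map
      (ModuleCat.ofHom (Algebra.linearMap A (IsLocalRing.ResidueField A)))).hom := by
  refine ⟨fun h => surjective_map_of_preservesEpi h _ IsLocalRing.residue_surjective, fun h => ?_⟩
  have := hfin p
  have := hfin (p - 1)
  have := free_coker_of_surjective_residue hP (show p - 1 + 1 = p by lia) h
  exact (preservesEpi_iff hP (show p - 1 + 1 = p by lia)).2 inferInstance

end Local

end Groth.Agent.FlatCxLib
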