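import Groth.Prelude.Def_ega3
import Mathlib.Algebra.Homology.ShortComplex.ExactFunctor
import Mathlib.Algebra.Homology.ShortComplex.PreservesHomology
import Mathlib.LinearAlgebra.Dimension.Constructions
import Mathlib.RingTheory.Flat.Basic
import Mathlib.LinearAlgebra.TensorProduct.RightExactness

/-! Extension of scalars along a field extension. -/

universe u

open CategoryTheory Limits TensorProduct

namespace Groth.Agent.FlatCxLib

section

variable {k k' : Type u} [CommRing k] [CommRing k'] (ι : k →+* k')

instance additive_extendScalars_field : (ModuleCat.extendScalars.{u, u, u} ι).Additive where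
  map_add {M N f g} := by
    refine ModuleCat.ExtendScalars.hom_ext fun m => ?_
    let := ι.toAlgebra
    exact TensorProduct.tmul_add (1 : k') _ _

lemma shortExact_extendScalars_field (hflat : letI := ι.toAlgebra; Module.Flat k k') {S : ShortComplex (ModuleCat.{u} k)} (hS : S.ShortExact) :
    (S.map (ModuleCat.extendScalars ι)).ShortExact := by
  let := ι.toAlgebra
  exact
    { exact := (ShortComplex.moduleCat_exact_iff _).2 fun x hx =>
        (lTensor_exact k' ((ShortComplex.ShortExact.moduleCat_exact_iff_function_exact S).1 hS.exact)
          hS.moduleCat_surjective_g x).1 hx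
      mono_f := (ModuleCat.mono_iff_injective _).2
        (Module.Flat.lTensor_preserves_injective_linearMap (M := k') S.f.hom hS.moduleCat_injective_f)
      epi_g := (ModuleCat.epi_iff_surjective _).2
        (LinearMap.lTensor_surjective k' hS.moduleCat_surjective_g) }

lemma preservesHomology_extendScalars_field (hflat : letI := ι.toAlgebra; Module.Flat k k') :
    (ModuleCat.extendScalars.{u, u, u} ι).PreservesHomology := by
  have h := (Functor.exact_tfae (ModuleCat.extendScalars.{u, u, u} ι)).out 0 2
  refine h.1 ?_
  intro S hS
  exact shortExact_extendScalars_field ι hflat hS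

/-- `H(k' ⊗ K) = k' ⊗ H(K)` along a flat map. -/
noncomputable def homologyExtendScalarsIso (hflat : letI := ι.toAlgebra; Module.Flat k k')
    {ι₀ : Type} {c : ComplexShape ι₀} (K : HomologicalComplex (ModuleCat.{u} k) c) (i : ι₀) :
    (CohIII.bcCx ι K).homology i ≅ (ModuleCat.extendScalars ι).obj (K.homology i) :=
  have := preservesHomology_extendScalars_field ι hflat
  (K.sc i).mapHomologyIso (ModuleCat.extendScalars ι)

end

section

variable {k k' : Type u} [Field k] [Field k'] (ι : k →+* k')

lemma finrank_extendScalars_field (M : ModuleCat.{u} k) :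
    Module.finrank k' ((ModuleCat.extendScalars ι).obj M) = Module.finrank k M := by
  let := ι.toAlgebra
  exact Module.finrank_baseChange (R := k') (S := k) (M' := M)

lemma finrank_homology_extendScalars_field {ι₀ : Type} {c : ComplexShape ι₀}
    (K : HomologicalComplex (ModuleCat.{u} k) c) (i : ι₀) :
    Module.finrank k' ((CohIII.bcCx ι K).homology i) = Module.finrank k (K.homology i) :=
  (homologyExtendScalarsIso ι (letI := ι.toAlgebra; inferInstance) K i).toLinearEquiv.finrank_eq.trans
    (finrank_extendScalars_field ι _)

lemma finrank_homology_bcCx_comp {A A' : Type u} [CommRing A] [CommRing A'] {ι₀ : Type}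
    {c : ComplexShape ι₀} (P : HomologicalComplex (ModuleCat.{u} A) c) (f : A →+* A') (φ' : A' →+* k')
    (φ : A →+* k) (h : φ'.comp f = ι.comp φ) (i : ι₀) :
    Module.finrank k' ((CohIII.bcCx φ' (CohIII.bcCx f P)).homology i) =
      Module.finrank k ((CohIII.bcCx φ P).homology i) := by
  rw [← finrank_homology_extendScalars_field ι]
  let e : ModuleCat.extendScalars f ⋙ ModuleCat.extendScalars φ' ≅
      ModuleCat.extendScalars φ ⋙ ModuleCat.extendScalars ι :=
    (ModuleCat.extendScalarsComp f φ').symm ≪≫ eqToIso (by rw [h]) ≪≫
      ModuleCat.extendScalarsComp φ ι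
  let E : CohIII.bcCx φ' (CohIII.bcCx f P) ≅ CohIII.bcCx ι (CohIII.bcCx φ P) :=
    HomologicalComplex.Hom.isoOfComponents (fun n => e.app (P.X n))
      (fun a b _ => (e.hom.naturality (P.d a b)).symm)
  exact ((HomologicalComplex.homologyFunctor _ _ i).mapIso E).toLinearEquiv.finrank_eq

end

end Groth.Agent.FlatCxLib
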