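import Groth.Agent.FlatCxLib.Exchange
import Mathlib.RingTheory.Spectrum.Prime.FreeLocus
import Mathlib.RingTheory.Support
import Mathlib.Topology.Semicontinuity.Basic
import Mathlib.LinearAlgebra.Dimension.RankNullity
import Mathlib.LinearAlgebra.FiniteDimensional.Lemmas

/-! The rank function `d_p(x)` of a complex of flat modules. -/

universe u

open CategoryTheory Limits TensorProduct

namespace Groth.Agent.FlatCxLib

section Field

variable {k : Type u} [Field k]

lemma finrank_homology_add (K : ChainComplex (ModuleCat.{u} k) ℤ) {p q r : ℤ} (hqp : q + 1 = p)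
    (hrq : r + 1 = q) [Module.Finite k (K.X q)] :
    Module.finrank k (K.homology q) + Module.finrank k (LinearMap.range (K.d p q).hom) +
      Module.finrank k (LinearMap.range (K.d q r).hom) = Module.finrank k (K.X q) := by
  have hk := next_down hrq
  let f : LinearMap.ker (K.d q r).hom →ₗ[k] K.homology q := (clsHom K q r hk).hom
  have hf : Function.Surjective f := fun h => by
    obtain ⟨x, hx, rfl⟩ := cls_surjective hk h
    exact ⟨⟨x, hx⟩, rfl⟩
  have hle : LinearMap.range (K.d p q).hom ≤ LinearMap.ker (K.d q r).hom := by
    rintro _ ⟨w, rfl⟩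
    exact LinearMap.congr_fun (ModuleCat.hom_ext_iff.1 (K.d_comp_d p q r)) w
  have hker : LinearMap.ker f =
      (LinearMap.range (K.d p q).hom).comap (LinearMap.ker (K.d q r).hom).subtype :=
    Submodule.ext fun ⟨x, hx⟩ => cls_eq_zero_iff (prev_down hqp) hk x hx
  have h1 := LinearMap.finrank_range_add_finrank_ker f
  rw [LinearMap.range_eq_top.2 hf, finrank_top, hker,
    (Submodule.comapSubtypeEquivOfLe hle).finrank_eq] at h1
  have h2 := LinearMap.finrank_range_add_finrank_ker (K.d q r).hom
  omega

variable {A : Type u} [CommRing A] [Algebra A k] {M N : Type u} [AddCommGroup M] [Module A M]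
  [AddCommGroup N] [Module A N]

lemma finrank_range_baseChange_add (u : M →ₗ[A] N) [Module.Finite A N] :
    Module.finrank k (LinearMap.range (u.baseChange k)) +
      Module.finrank k (k ⊗[A] (N ⧸ LinearMap.range u)) = Module.finrank k (k ⊗[A] N) := by
  let π := (LinearMap.range u).mkQ.baseChange k
  have hπ : Function.Surjective π :=
    LinearMap.lTensor_surjective k (Submodule.mkQ_surjective (LinearMap.range u))
  have hker : LinearMap.ker π = LinearMap.range (u.baseChange k) :=
    Submodule.ext fun x =>
      lTensor_exact k u.exact_map_mkQ_range (Submodule.mkQ_surjective (LinearMap.range u)) x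
  have h1 := LinearMap.finrank_range_add_finrank_ker π
  rw [LinearMap.range_eq_top.2 hπ, finrank_top, hker] at h1
  omega

end Field

variable {A : Type u} [CommRing A]

/-- The dimension of the fibre of a module at a prime. -/
noncomputable def fibreRank (M : Type u) [AddCommGroup M] [Module A M] (x : PrimeSpectrum A) : ℕ :=
  Module.finrank x.asIdeal.ResidueField (x.asIdeal.ResidueField ⊗[A] M)

lemma fibreRank_eq_rankAtStalk (M : Type u) [AddCommGroup M] [Module A M] [Module.Finite A M]
    [Module.Flat A M] (x : PrimeSpectrum A) : fibreRank M x = Module.rankAtStalk M x :=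
  Ideal.finrank_fiber_eq_rankAtStalk x.asIdeal

lemma isLocallyConstant_fibreRank (M : Type u) [AddCommGroup M] [Module A M]
    [Module.FinitePresentation A M] [Module.Flat A M] :
    IsLocallyConstant (fibreRank (A := A) M) := by
  have e : fibreRank (A := A) M = Module.rankAtStalk M := funext fun x => fibreRank_eq_rankAtStalk M x
  rw [e]
  exact Module.isLocallyConstant_rankAtStalk

lemma exists_generators_near (M : Type u) [AddCommGroup M] [Module A M] [Module.Finite A M]
    (x : PrimeSpectrum A) : ∃ s : Finset M, s.card ≤ fibreRank M x ∧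
      x ∉ Module.support A (M ⧸ Submodule.span A (s : Set M)) := by
  let k := x.asIdeal.ResidueField
  obtain ⟨s, hs⟩ : ∃ s : Finset M, s.card ≤ fibreRank M x ∧
      Submodule.span k ((fun m => (1 : k) ⊗ₜ[A] m) '' (s : Set M)) = ⊤ := by
    classical
    let v : M → k ⊗[A] M := fun m => 1 ⊗ₜ m
    have hv : Submodule.span k (Set.range v) = ⊤ := by
      rw [eq_top_iff]
      rintro t -
      induction t using TensorProduct.induction_on with
      | zero => exact zero_mem _
      | tmul c m =>
        rw [show c ⊗ₜ[A] m = c • ((1 : k) ⊗ₜ[A] m) by simp [TensorProduct.smul_tmul']]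
        exact Submodule.smul_mem _ _ (Submodule.subset_span ⟨m, rfl⟩)
      | add a b ha hb => exact add_mem ha hb
    obtain ⟨b, hb, hbspan, hli⟩ := exists_linearIndependent k (Set.range v)
    have hfin : b.Finite := hli.setFinite
    refine ⟨hfin.toFinset.image (Function.invFun v), ?_, ?_⟩
    · refine Finset.card_image_le.trans ?_
      have := hfin.fintype
      rw [Set.Finite.card_toFinset]
      exact hli.fintype_card_le_finrank
    · rw [eq_top_iff, ← hv, ← hbspan, Submodule.span_le]
      intro y hy
      refine Submodule.subset_span ⟨Function.invFun v y, ?_, Function.invFun_eq (hb hy)⟩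
      simp only [Finset.coe_image, Set.Finite.coe_toFinset]
      exact ⟨y, hy, rfl⟩
  let N : Submodule A M := Submodule.span A (s : Set M)
  have hx : x ∉ Module.support A (M ⧸ N) := by
    rw [Module.mem_support_iff_nontrivial_residueField_tensorProduct, not_nontrivial_iff_subsingleton]
    refine subsingleton_of_forall_eq 0 fun a => ?_
    obtain ⟨b, rfl⟩ := LinearMap.lTensor_surjective k N.mkQ_surjective a
    have : LinearMap.ker (N.mkQ.baseChange k) = ⊤ := by
      rw [eq_top_iff, ← hs.2, Submodule.span_le]
      rintro _ ⟨m, hm, rfl⟩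
      show (1 : k) ⊗ₜ[A] N.mkQ m = 0
      rw [(Submodule.Quotient.mk_eq_zero N).2 (Submodule.subset_span hm) |> fun h =>
        (show N.mkQ m = 0 from h), TensorProduct.tmul_zero]
    exact (this ▸ Submodule.mem_top : b ∈ LinearMap.ker (N.mkQ.baseChange k))
  exact ⟨s, hs.1, hx⟩

lemma upperSemicontinuous_fibreRank (M : Type u) [AddCommGroup M] [Module A M] [Module.Finite A M] :
    UpperSemicontinuous (fibreRank (A := A) M) := by
  intro x n hn
  obtain ⟨s, hs1, hx⟩ := exists_generators_near M x
  let N : Submodule A M := Submodule.span A (s : Set M)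
  have hopen : IsOpen (Module.support A (M ⧸ N))ᶜ := Module.isClosed_support.isOpen_compl
  filter_upwards [hopen.mem_nhds hx] with y hy
  refine lt_of_le_of_lt ?_ hn
  refine le_trans ?_ hs1
  let k' := y.asIdeal.ResidueField
  rw [Set.mem_compl_iff, Module.mem_support_iff_nontrivial_residueField_tensorProduct,
    not_nontrivial_iff_subsingleton] at hy
  have hsurj : Submodule.span k' ((fun m => (1 : k') ⊗ₜ[A] m) '' (s : Set M)) = ⊤ := by
    rw [eq_top_iff]
    rintro t -
    obtain ⟨w, rfl⟩ : t ∈ LinearMap.range (N.subtype.lTensor k') :=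
      (lTensor_exact k' (LinearMap.exact_subtype_mkQ N) N.mkQ_surjective t).1 (Subsingleton.elim _ _)
    induction w using TensorProduct.induction_on with
    | zero => rw [map_zero]; exact zero_mem _
    | add a b ha hb => rw [map_add]; exact add_mem ha hb
    | tmul c z =>
      rw [LinearMap.lTensor_tmul,
        show c ⊗ₜ[A] N.subtype z = c • ((1 : k') ⊗ₜ[A] (z : M)) by simp [TensorProduct.smul_tmul']]
      refine Submodule.smul_mem _ _ ?_
      obtain ⟨z, hz⟩ := z
      induction hz using Submodule.span_induction with
      | mem m hm => exact Submodule.subset_span ⟨m, hm, rfl⟩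
      | zero => rw [TensorProduct.tmul_zero]; exact zero_mem _
      | add a b _ _ ha hb => rw [TensorProduct.tmul_add]; exact add_mem ha hb
      | smul r a _ ha =>
        rw [TensorProduct.tmul_smul]
        exact Submodule.smul_of_tower_mem _ r ha
  classical
  have := finrank_span_finset_le_card (R := k') (s.image fun m => (1 : k') ⊗ₜ[A] m)
  rw [Set.finrank, Finset.coe_image, hsurj, finrank_top] at this
  exact this.trans Finset.card_image_le

lemma arith {H a b Xq c₁ c₂ Xr : ℕ} (h : H + a + b = Xq) (h1 : a + c₁ = Xq) (h2 : b + c₂ = Xr) :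
    H + Xr = c₁ + c₂ := by omega

variable (P : ChainComplex (ModuleCat.{u} A) ℤ)

lemma finrank_homology_bcCx {k : Type u} [Field k] (φ : A →+* k) (hfin : ∀ i, Module.Finite A (P.X i))
    {p q r : ℤ} (hqp : q + 1 = p) (hrq : r + 1 = q) (inst : Algebra A k) (hinst : inst = φ.toAlgebra) :
    letI := inst
    Module.finrank k ((CohIII.bcCx φ P).homology q) + Module.finrank k (k ⊗[A] P.X r) =
      Module.finrank k (k ⊗[A] Coker P p q) + Module.finrank k (k ⊗[A] Coker P q r) := by
  subst hinst
  let := φ.toAlgebra
  have hfinX : ∀ i, Module.Finite k ((CohIII.bcCx φ P).X i) := fun i => by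
    have := hfin i
    exact inferInstanceAs (Module.Finite k (k ⊗[A] P.X i))
  have h0 := finrank_homology_add (CohIII.bcCx φ P) hqp hrq
  have := hfin q
  have := hfin r
  have h1 := finrank_range_baseChange_add (k := k) (P.d p q).hom
  have h2 := finrank_range_baseChange_add (k := k) (P.d q r).hom
  have hh : Module.finrank k ((CohIII.bcCx φ P).homology q) +
      Module.finrank k (LinearMap.range ((P.d p q).hom.baseChange k)) +
      Module.finrank k (LinearMap.range ((P.d q r).hom.baseChange k)) =
      Module.finrank k (k ⊗[A] P.X q) := h0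
  have h1' : Module.finrank k (LinearMap.range ((P.d p q).hom.baseChange k)) +
      Module.finrank k (k ⊗[A] Coker P p q) = Module.finrank k (k ⊗[A] P.X q) := h1
  have h2' : Module.finrank k (LinearMap.range ((P.d q r).hom.baseChange k)) +
      Module.finrank k (k ⊗[A] Coker P q r) = Module.finrank k (k ⊗[A] P.X r) := h2
  exact arith hh h1' h2'

lemma dRank_add (hfin : ∀ i, Module.Finite A (P.X i)) {p q r : ℤ} (hqp : q + 1 = p)
    (hrq : r + 1 = q) (x : PrimeSpectrum A) :
    CohIII.dRank P q x + fibreRank (P.X r) x =
      fibreRank (Coker P p q) x + fibreRank (Coker P q r) x :=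
  finrank_homology_bcCx P (algebraMap A x.asIdeal.ResidueField) hfin hqp hrq _
    (Algebra.algebra_ext _ _ fun _ => rfl)

lemma upperSemicontinuous_dRank (hfp : ∀ i, Module.FinitePresentation A (P.X i))
    (hP : ∀ i, Module.Flat A (P.X i)) (q : ℤ) : UpperSemicontinuous (CohIII.dRank P q) := by
  intro x n hn
  have hfin : ∀ i, Module.Finite A (P.X i) := fun i => have := hfp i; inferInstance
  have hq := dRank_add P hfin (show q + 1 = q + 1 from rfl) (show q - 1 + 1 = q by lia)
  have := hfp (q - 1)
  have := hP (q - 1)
  have := hfin q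
  filter_upwards [(isLocallyConstant_fibreRank (P.X (q - 1))).eventually_eq x,
    upperSemicontinuous_fibreRank (Coker P (q + 1) q) x _ (Nat.lt_succ_self _),
    upperSemicontinuous_fibreRank (Coker P q (q - 1)) x _ (Nat.lt_succ_self _)] with y h1 h2 h3
  have := hq x
  have := hq y
  omega

end Groth.Agent.FlatCxLib
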