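import Groth.Agent.FlatCxLib.Structure
import Groth.Agent.FlatCxLib.BaseChange
import Groth.Agent.FlatCxLib.Rank

/-! Homology of a base change when the next cokernel is flat. -/

universe u

open CategoryTheory Limits TensorProduct

namespace Groth.Agent.FlatCxLib

variable {A : Type u} [CommRing A] (P : ChainComplex (ModuleCat.{u} A) ℤ)
  {B : Type u} [CommRing B]

lemma nonempty_homology_bcCx_equiv_aux (φ : A →+* B) (hP : ∀ i, Module.Flat A (P.X i)) {p q r : ℤ}
    (hqp : q + 1 = p) (hrq : r + 1 = q) [Module.Flat A (Coker P q r)] (inst : Algebra A B)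
    (hinst : inst = φ.toAlgebra) :
    letI := inst
    Nonempty ((B ⊗[A] Hom' P p q r) ≃ₗ[B] (CohIII.bcCx φ P).homology q) := by
  subst hinst
  let := φ.toAlgebra
  have hk := next_down hrq
  have hi := prev_down hqp
  let K := CohIII.bcCx φ P
  let ι : B ⊗[A] Cyc P q r →ₗ[B] B ⊗[A] P.X q := (Cyc P q r).subtype.baseChange B
  let ψ : B ⊗[A] Cyc P q r →ₗ[B] K.homology q :=
    (clsHom K q r hk).hom ∘ₗ ι.codRestrict (LinearMap.ker (K.d q r).hom) (fun t => by
      show ((P.d q r).hom.lTensor B) ((Cyc P q r).subtype.lTensor B t) = 0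
      rw [← LinearMap.comp_apply, ← LinearMap.lTensor_comp,
        show (P.d q r).hom ∘ₗ (Cyc P q r).subtype = 0 from LinearMap.ext fun x => x.2,
        LinearMap.lTensor_zero, LinearMap.zero_apply])
  have hex : Function.Exact (Cyc P q r).subtype (P.d q r).hom.rangeRestrict := by
    rw [LinearMap.exact_iff, LinearMap.ker_rangeRestrict, Submodule.range_subtype]
  have hψs : Function.Surjective ψ := by
    intro a
    obtain ⟨x, hx, rfl⟩ := cls_surjective hk a
    have hui : Function.Injective ((LinearMap.range (P.d q r).hom).subtype.lTensor B) := by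
      rw [LinearMap.lTensor_inj_iff_rTensor_inj]
      exact CAlgUI.ui_of_flat_quotient (g := (LinearMap.range (P.d q r).hom).mkQ)
        Subtype.val_injective (LinearMap.exact_subtype_mkQ _) (Submodule.mkQ_surjective _) B
    have hxr : (P.d q r).hom.rangeRestrict.lTensor B x = 0 := by
      refine hui ?_
      rw [← LinearMap.comp_apply, ← LinearMap.lTensor_comp, map_zero]
      exact hx
    obtain ⟨t, ht⟩ := (lTensor_exact B hex (LinearMap.surjective_rangeRestrict _) x).1 hxr
    exact ⟨t, congrArg (clsHom K q r hk).hom (Subtype.ext ht)⟩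
  let π : B ⊗[A] Cyc P q r →ₗ[B] B ⊗[A] Hom' P p q r :=
    (LinearMap.range (toCyc P p q r)).mkQ.baseChange B
  have hπs : Function.Surjective π := LinearMap.lTensor_surjective B (Submodule.mkQ_surjective _)
  have hker : LinearMap.ker ψ = LinearMap.ker π := by
    have := flat_range P q r hP
    have hui : Function.Injective ((Cyc P q r).subtype.lTensor B) := by
      rw [LinearMap.lTensor_inj_iff_rTensor_inj]
      exact CAlgUI.ui_of_flat_quotient Subtype.val_injective hex
        (LinearMap.surjective_rangeRestrict _) B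
    have hd : ∀ w, (Cyc P q r).subtype.lTensor B ((toCyc P p q r).lTensor B w) =
        (P.d p q).hom.lTensor B w := fun w => by
      rw [← LinearMap.comp_apply, ← LinearMap.lTensor_comp]
      rfl
    ext t
    rw [LinearMap.mem_ker, LinearMap.mem_ker]
    refine Iff.trans ?_
      (lTensor_exact B (toCyc P p q r).exact_map_mkQ_range (Submodule.mkQ_surjective _) t).symm
    refine (cls_eq_zero_iff (K := K) hi hk (ι t) _).trans ?_
    exact ⟨fun ⟨w, hw⟩ => ⟨w, hui ((hd w).trans hw)⟩,
      fun ⟨w, hw⟩ => ⟨w, (hd w).symm.trans (congrArg _ hw)⟩⟩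
  exact ⟨((π.quotKerEquivOfSurjective hπs).symm.trans (Submodule.quotEquivOfEq _ _ hker.symm)).trans
    (ψ.quotKerEquivOfSurjective hψs)⟩

variable [Algebra A B]

lemma nonempty_homology_bcCx_equiv (hP : ∀ i, Module.Flat A (P.X i)) {p q r : ℤ}
    (hqp : q + 1 = p) (hrq : r + 1 = q) [Module.Flat A (Coker P q r)] :
    Nonempty ((B ⊗[A] Hom' P p q r) ≃ₗ[B] (CohIII.bcCx (algebraMap A B) P).homology q) :=
  nonempty_homology_bcCx_equiv_aux P (algebraMap A B) hP hqp hrq _
    (Algebra.algebra_ext _ _ fun _ => rfl)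

lemma dRank_eq_fibreRank (hP : ∀ i, Module.Flat A (P.X i)) {p q r : ℤ} (hqp : q + 1 = p)
    (hrq : r + 1 = q) [Module.Flat A (Coker P q r)] (x : PrimeSpectrum A) :
    CohIII.dRank P q x = fibreRank (Hom' P p q r) x :=
  ((nonempty_homology_bcCx_equiv P (B := x.asIdeal.ResidueField) hP hqp hrq).some.finrank_eq).symm

end Groth.Agent.FlatCxLib
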