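import Groth.Agent.FlatCxLib.Structure
import Mathlib.Algebra.Category.ModuleCat.Monoidal.Basic
import Mathlib.Algebra.Homology.HomotopyCategory.Acyclic
import Mathlib.Algebra.Homology.HomotopyCategory.MappingCone
import Mathlib.Algebra.Homology.Localization
import Mathlib.Algebra.Category.ModuleCat.Biproducts

/-! Bounded above complexes of flat modules. -/

universe u

open CategoryTheory Limits MonoidalCategory TensorProduct

namespace Groth.Agent.FlatCxLib

variable {A : Type u} [CommRing A]

lemma ker_eq_range_of_exactAt (F : CochainComplex (ModuleCat.{u} A) ℤ) {i : ℤ}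
    (h : F.ExactAt (i + 1)) :
    LinearMap.ker (F.d (i + 1) (i + 1 + 1)).hom = LinearMap.range (F.d i (i + 1)).hom := by
  rw [F.exactAt_iff' i (i + 1) (i + 1 + 1) (by simp) (by simp),
    ShortComplex.moduleCat_exact_iff_range_eq_ker] at h
  exact h.symm

lemma flat_ker_of_boundedAbove (F : CochainComplex (ModuleCat.{u} A) ℤ)
    (hF : ∀ i, Module.Flat A (F.X i)) {b : ℤ} (hb : ∀ i, b < i → IsZero (F.X i)) (d : ℤ)
    (hac : ∀ i, d < i → F.ExactAt i) (i : ℤ) (hi : d ≤ i) :
    Module.Flat A (LinearMap.ker (F.d i (i + 1)).hom) := by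
  suffices ∀ (n : ℕ) (i : ℤ), d ≤ i → b < i + n →
      Module.Flat A (LinearMap.ker (F.d i (i + 1)).hom) from
    this (b + 1 - i).toNat i hi (by lia)
  intro n
  induction n with
  | zero =>
    intro i _ hbi
    have := ModuleCat.subsingleton_of_isZero (hb i (by lia))
    infer_instance
  | succ n ih =>
    intro i hdi hbi
    have := hF i
    have h2 := ih (i + 1) (by lia) (by lia)
    let e := LinearEquiv.ofEq _ _ (ker_eq_range_of_exactAt F (hac (i + 1) (by lia)))
    have : Module.Flat A (LinearMap.range (F.d i (i + 1)).hom) := Module.Flat.of_linearEquiv e.symm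
    exact flat_sub_of_flat (f := (LinearMap.ker (F.d i (i + 1)).hom).subtype)
      (g := (F.d i (i + 1)).hom.rangeRestrict) Subtype.val_injective
      (LinearMap.exact_iff.2 (by rw [LinearMap.ker_rangeRestrict, Submodule.range_subtype]))
      (LinearMap.surjective_rangeRestrict _)

lemma exactAt_tensorRight_of_acyclic (K : CochainComplex (ModuleCat.{u} A) ℤ)
    (hK : ∀ i, Module.Flat A (K.X i)) {b : ℤ} (hb : ∀ i, b < i → IsZero (K.X i))
    (hac : ∀ i, K.ExactAt i) (M : ModuleCat.{u} A) (j : ℤ) :
    (((tensorRight M).mapHomologicalComplex (ComplexShape.up ℤ)).obj K).ExactAt j := by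
  obtain ⟨i, rfl⟩ : ∃ i, i + 1 = j := ⟨j - 1, by lia⟩
  rw [HomologicalComplex.exactAt_iff' _ i (i + 1) (i + 1 + 1) (by simp) (by simp),
    ShortComplex.moduleCat_exact_iff_range_eq_ker]
  show LinearMap.range ((K.d i (i + 1)).hom.rTensor M) =
    LinearMap.ker ((K.d (i + 1) (i + 1 + 1)).hom.rTensor M)
  have hk := ker_eq_range_of_exactAt K (hac (i + 1))
  let g := (K.d (i + 1) (i + 1 + 1)).hom
  have hf : Module.Flat A (LinearMap.range g) := by
    have := flat_ker_of_boundedAbove K hK hb (i + 1) (fun l _ => hac l) (i + 1 + 1) (by lia)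
    exact Module.Flat.of_linearEquiv
      (LinearEquiv.ofEq _ _ (ker_eq_range_of_exactAt K (hac (i + 1 + 1)))).symm
  have hinj : Function.Injective ((LinearMap.range g).subtype.rTensor M) := by
    let π : K.X (i + 1 + 1) →ₗ[A] _ := (K.d (i + 1 + 1) (i + 1 + 1 + 1)).hom.rangeRestrict
    have hR : Module.Flat A (LinearMap.range (K.d (i + 1 + 1) (i + 1 + 1 + 1)).hom) := by
      have := flat_ker_of_boundedAbove K hK hb (i + 1) (fun l _ => hac l) (i + 1 + 1 + 1) (by lia)
      exact Module.Flat.of_linearEquiv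
        (LinearEquiv.ofEq _ _ (ker_eq_range_of_exactAt K (hac (i + 1 + 1 + 1)))).symm
    exact CAlgUI.ui_of_flat_quotient (g := π) Subtype.val_injective
      (LinearMap.exact_iff.2 (by
        rw [LinearMap.ker_rangeRestrict, Submodule.range_subtype]
        exact ker_eq_range_of_exactAt K (hac (i + 1 + 1))))
      (LinearMap.surjective_rangeRestrict _) M
  have hex : Function.Exact (K.d i (i + 1)).hom g.rangeRestrict := by
    rw [LinearMap.exact_iff, LinearMap.ker_rangeRestrict]
    exact hk
  have h1 : Function.Exact ((K.d i (i + 1)).hom.rTensor M) (g.rangeRestrict.rTensor M) :=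
    rTensor_exact M hex (LinearMap.surjective_rangeRestrict _)
  have h2 : g.rTensor M = (LinearMap.range g).subtype.rTensor M ∘ₗ g.rangeRestrict.rTensor M := by
    rw [← LinearMap.rTensor_comp]; rfl
  rw [← LinearMap.exact_iff.1 h1]
  show _ = LinearMap.ker (g.rTensor M)
  rw [h2, LinearMap.ker_comp_of_ker_eq_bot _ (LinearMap.ker_eq_bot.2 hinj)]

lemma acyclic_mappingCone {C D : CochainComplex (ModuleCat.{u} A) ℤ} (φ : C ⟶ D) :
    QuasiIso φ ↔ (CochainComplex.mappingCone φ).Acyclic := by
  rw [← HomologicalComplex.mem_quasiIso_iff, ← HomotopyCategory.quotient_map_mem_quasiIso_iff,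
    HomotopyCategory.quasiIso_eq_trW_subcategoryAcyclic,
    ← HomotopyCategory.quotient_obj_mem_subcategoryAcyclic_iff_acyclic]
  exact (HomotopyCategory.subcategoryAcyclic _).trW_iff_of_distinguished _
    (HomotopyCategory.mappingCone_triangleh_distinguished φ)

open CochainComplex in
/-- The terms of a mapping cone. -/
noncomputable def coneX {C D : CochainComplex (ModuleCat.{u} A) ℤ} (φ : C ⟶ D) (n : ℤ) :
    (mappingCone φ).X n ≅ C.X (n + 1) ⊞ D.X n where
  hom := biprod.lift ((mappingCone.fst φ).1.v n (n + 1) rfl) ((mappingCone.snd φ).v n n (add_zero n))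
  inv := biprod.desc ((mappingCone.inl φ).v (n + 1) n (by lia)) ((mappingCone.inr φ).f n)
  hom_inv_id := by simp [mappingCone.id_X]
  inv_hom_id := by apply biprod.hom_ext <;> apply biprod.hom_ext' <;> simp

lemma quasiIso_tensorRight (C D : CochainComplex (ModuleCat.{u} A) ℤ)
    (hC : ∀ i, Module.Flat A (C.X i)) (hD : ∀ i, Module.Flat A (D.X i))
    {b : ℤ} (bC : ∀ i, b < i → IsZero (C.X i)) {b' : ℤ} (bD : ∀ i, b' < i → IsZero (D.X i))
    (φ : C ⟶ D) [QuasiIso φ] (M : ModuleCat.{u} A) :
    QuasiIso (((tensorRight M).mapHomologicalComplex (ComplexShape.up ℤ)).map φ) := by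
  rw [acyclic_mappingCone]
  have hfl : ∀ n, Module.Flat A ((CochainComplex.mappingCone φ).X n) := fun n => by
    have := hC (n + 1); have := hD n
    have : Module.Flat A (ModuleCat.of A (C.X (n + 1) × D.X n)) :=
      flat_of_flat_sub_quotient LinearMap.inl_injective
        (Function.Exact.inl_snd (R := A) (M := C.X (n + 1)) (N := D.X n)) LinearMap.snd_surjective
    exact Module.Flat.of_linearEquiv
      (coneX φ n ≪≫ ModuleCat.biprodIsoProd _ _).toLinearEquiv
  intro j
  exact (exactAt_tensorRight_of_acyclic (CochainComplex.mappingCone φ) hfl (b := max b b')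
    (fun i hi => IsZero.of_iso (biprod_isZero_iff _ _ |>.2
      ⟨bC _ (by lia), bD _ (by lia)⟩) (coneX φ i)) ((acyclic_mappingCone φ).1 inferInstance) M j).of_iso
    (CochainComplex.mappingCone.mapHomologicalComplexIso φ (tensorRight M))

end Groth.Agent.FlatCxLib
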