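import Mathlib.Algebra.Homology.ShortComplex.Limits
import Mathlib.Algebra.Homology.ShortComplex.PreservesHomology
import Mathlib.Algebra.Homology.ShortComplex.ExactFunctor
import Mathlib.Algebra.Homology.HomologicalComplexLimits
import Mathlib.Algebra.Homology.HomologicalComplexAbelian
import Mathlib.Algebra.Homology.ShortComplex.HomologicalComplex
import Mathlib.CategoryTheory.Abelian.GrothendieckAxioms.Colim
import Mathlib.CategoryTheory.Abelian.FunctorCategory

/-! Homology commutes with exact colimits. -/

universe t t' v u

open CategoryTheory Limits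

namespace Groth.Agent.FlatCxLib

variable {C : Type u} [Category.{v} C] [Abelian C] {J : Type t} [Category.{t'} J]
  [HasColimitsOfShape J C] [HasExactColimitsOfShape J C]

/-- The short complex of functors of a diagram of short complexes. -/
noncomputable def diagSC (K : J ⥤ ShortComplex C) : ShortComplex (J ⥤ C) :=
  ShortComplex.mk (Functor.whiskerLeft K ShortComplex.π₁Toπ₂) (Functor.whiskerLeft K ShortComplex.π₂Toπ₃)
    (by ext j; exact (K.obj j).zero)

variable (K : J ⥤ ShortComplex C) {c : Cocone K} (hc : IsColimit c)

/-- The colimit, computed termwise. -/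
noncomputable def colimDiagIso :
    (colim (J := J) (C := C)).mapShortComplex.obj (diagSC K) ≅ c.pt :=
  ShortComplex.isoMk
    ((colimit.isColimit _).coconePointUniqueUpToIso (isColimitOfPreserves ShortComplex.π₁ hc))
    ((colimit.isColimit _).coconePointUniqueUpToIso (isColimitOfPreserves ShortComplex.π₂ hc))
    ((colimit.isColimit _).coconePointUniqueUpToIso (isColimitOfPreserves ShortComplex.π₃ hc))
    (colimit.hom_ext fun j => by
      dsimp [diagSC]
      erw [ι_colimMap_assoc, IsColimit.comp_coconePointUniqueUpToIso_hom_assoc,
        IsColimit.comp_coconePointUniqueUpToIso_hom]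
      exact (c.ι.app j).comm₁₂)
    (colimit.hom_ext fun j => by
      dsimp [diagSC]
      erw [ι_colimMap_assoc, IsColimit.comp_coconePointUniqueUpToIso_hom_assoc,
        IsColimit.comp_coconePointUniqueUpToIso_hom]
      exact (c.ι.app j).comm₂₃)

/-- `j ↦ H(K j)` as a natural isomorphism. -/
noncomputable def homologyDiagIso :
    K ⋙ ShortComplex.homologyFunctor C ≅ (diagSC K).homology :=
  NatIso.ofComponents (fun j => (diagSC K).mapHomologyIso ((evaluation J C).obj j))
    (fun {j j'} a => by
      have e := NatTrans.app_homology ((evaluation J C).map a) (diagSC K)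
      refine Eq.trans ?_ (congrArg (((diagSC K).mapHomologyIso _).hom ≫ ·) e.symm)
      erw [Iso.hom_inv_id_assoc]
      rfl)

lemma preservesColimit_homology : PreservesColimit K (ShortComplex.homologyFunctor C) := by
  obtain ⟨hc⟩ : Nonempty (IsColimit (colimit.cocone K)) := ⟨colimit.isColimit K⟩
  refine preservesColimit_of_preserves_colimit_cocone hc ?_
  let e : colimit (diagSC K).homology ≅ (colimit K).homology :=
    ((diagSC K).mapHomologyIso (colim (J := J) (C := C))).symm ≪≫
      (ShortComplex.homologyFunctor C).mapIso (colimDiagIso K hc)
  refine (IsColimit.precomposeInvEquiv (homologyDiagIso K) _).1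
    (IsColimit.ofIsoColimit (colimit.isColimit _) (Cocone.ext e fun j => ?_))
  let τ : (evaluation J C).obj j ⟶ colim :=
    { app := fun F => colimit.ι F j, naturality := fun F G f => (ι_colimMap f j).symm }
  have h := NatTrans.app_homology τ (diagSC K)
  show τ.app (diagSC K).homology ≫ e.hom = (homologyDiagIso K).inv.app j ≫
    ShortComplex.homologyMap (colimit.ι K j)
  rw [h, Category.assoc, Category.assoc]
  refine congrArg (((diagSC K).mapHomologyIso ((evaluation J C).obj j)).inv ≫ ·) ?_
  dsimp only [e, Iso.trans_hom, Iso.symm_hom, Functor.mapIso_hom]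
  rw [Iso.hom_inv_id_assoc]
  refine (ShortComplex.homologyMap_comp _ _).symm.trans ?_
  congr 1
  ext1
  · exact IsColimit.comp_coconePointUniqueUpToIso_hom (colimit.isColimit _)
      (isColimitOfPreserves ShortComplex.π₁ hc) j
  · exact IsColimit.comp_coconePointUniqueUpToIso_hom (colimit.isColimit _)
      (isColimitOfPreserves ShortComplex.π₂ hc) j
  · exact IsColimit.comp_coconePointUniqueUpToIso_hom (colimit.isColimit _)
      (isColimitOfPreserves ShortComplex.π₃ hc) j

lemma preservesColimitsOfShape_homology :
    PreservesColimitsOfShape J (ShortComplex.homologyFunctor C) :=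
  ⟨fun {K} => preservesColimit_homology K⟩

variable {ι : Type*} (c : ComplexShape ι)

lemma preservesColimitsOfShape_complexHomology (i : ι) :
    PreservesColimitsOfShape J (HomologicalComplex.homologyFunctor C c i) := by
  have : PreservesColimitsOfShape J (HomologicalComplex.shortComplexFunctor C c i) :=
    ⟨fun {K} => preservesColimit_of_preserves_colimit_cocone (colimit.isColimit K)
      (ShortComplex.isColimitOfIsColimitπ _
        (isColimitOfPreserves (HomologicalComplex.eval C c (c.prev i)) (colimit.isColimit K))
        (isColimitOfPreserves (HomologicalComplex.eval C c i) (colimit.isColimit K))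
        (isColimitOfPreserves (HomologicalComplex.eval C c (c.next i)) (colimit.isColimit K)))⟩
  have := preservesColimitsOfShape_homology (C := C) (J := J)
  exact preservesColimitsOfShape_of_natIso
    (HomologicalComplex.homologyFunctorIso C c i).symm

end Groth.Agent.FlatCxLib
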