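import Groth.Agent.FlatCxLib.Exchange
import Groth.Agent.CAlgUI.Flat
import Mathlib.Algebra.Category.ModuleCat.Monoidal.Basic
import Mathlib.RingTheory.Flat.Stability

/-! Structure of `H_q(P ⊗ M)` when the neighbouring cokernel is flat. -/

universe u

open CategoryTheory Limits TensorProduct

namespace Groth.Agent.FlatCxLib

variable {A : Type u} [CommRing A]

section Flat

variable {M₁ M₂ M₃ : Type u} [AddCommGroup M₁] [Module A M₁] [AddCommGroup M₂] [Module A M₂]
  [AddCommGroup M₃] [Module A M₃] {f : M₁ →ₗ[A] M₂} {g : M₂ →ₗ[A] M₃}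

lemma flat_of_flat_sub_quotient [Module.Flat A M₁] [Module.Flat A M₃] (hf : Function.Injective f)
    (hex : Function.Exact f g) (hg : Function.Surjective g) : Module.Flat A M₂ := by
  rw [Module.Flat.iff_lTensor_preserves_injective_linearMap]
  intro N N' _ _ _ _ i hi
  rw [injective_iff_map_eq_zero]
  intro x hx
  have h1 : g.rTensor N x = 0 := by
    refine Module.Flat.lTensor_preserves_injective_linearMap (M := M₃) i hi ?_
    rw [lTensor_rTensor_comm, hx, map_zero, map_zero]
  obtain ⟨y, rfl⟩ := (rTensor_exact N hex hg x).1 h1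
  have h2 : i.lTensor M₁ y = 0 := by
    refine CAlgUI.ui_of_flat_quotient hf hex hg N' ?_
    rw [← lTensor_rTensor_comm, hx, map_zero]
  rw [Module.Flat.lTensor_preserves_injective_linearMap i hi (h2.trans (map_zero _).symm), map_zero]

lemma flat_sub_of_flat [Module.Flat A M₂] [Module.Flat A M₃] (hf : Function.Injective f)
    (hex : Function.Exact f g) (hg : Function.Surjective g) : Module.Flat A M₁ :=
  CAlgUI.flat_left_of_ui (CAlgUI.ui_of_flat_quotient hf hex hg)

end Flat

variable (P : ChainComplex (ModuleCat.{u} A) ℤ) (p q r : ℤ)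

/-- Cycles. -/
abbrev Cyc : Submodule A (P.X q) := LinearMap.ker (P.d q r).hom

/-- Boundaries inside cycles. -/
noncomputable def toCyc : P.X p →ₗ[A] Cyc P q r :=
  (P.d p q).hom.codRestrict _ fun w => LinearMap.congr_fun (ModuleCat.hom_ext_iff.1 (P.d_comp_d p q r)) w

/-- The homology module, concretely. -/
abbrev Hom' : Type u := Cyc P q r ⧸ LinearMap.range (toCyc P p q r)

/-- `W_q → P_r`. -/
noncomputable def cokerDesc : Coker P p q →ₗ[A] P.X r :=
  (LinearMap.range (P.d p q).hom).liftQ (P.d q r).hom (by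
    rintro _ ⟨w, rfl⟩
    exact LinearMap.congr_fun (ModuleCat.hom_ext_iff.1 (P.d_comp_d p q r)) w)

/-- The inclusion of homology in the cokernel. -/
noncomputable def hom'ToCoker : Hom' P p q r →ₗ[A] Coker P p q :=
  (LinearMap.range (toCyc P p q r)).mapQ _ (Cyc P q r).subtype (by
    rintro _ ⟨w, rfl⟩; exact ⟨w, rfl⟩)

lemma hom'ToCoker_injective : Function.Injective (hom'ToCoker P p q r) := by
  rw [injective_iff_map_eq_zero]
  intro x hx
  obtain ⟨z, rfl⟩ := Submodule.Quotient.mk_surjective _ x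
  obtain ⟨w, hw⟩ := (Submodule.Quotient.mk_eq_zero _).1 hx
  exact (Submodule.Quotient.mk_eq_zero _).2 ⟨w, Subtype.ext hw⟩

lemma exact_hom'ToCoker :
    Function.Exact (hom'ToCoker P p q r) (cokerDesc P p q r).rangeRestrict := by
  intro x
  obtain ⟨z, rfl⟩ := Submodule.Quotient.mk_surjective _ x
  constructor
  · intro h
    have hz : (P.d q r).hom z = 0 := congrArg Subtype.val h
    exact ⟨Submodule.Quotient.mk ⟨z, hz⟩, rfl⟩
  · rintro ⟨y, hy⟩
    obtain ⟨⟨y, hy'⟩, rfl⟩ := Submodule.Quotient.mk_surjective _ y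
    rw [← hy]
    exact Subtype.ext hy'

lemma range_cokerDesc : LinearMap.range (cokerDesc P p q r) = LinearMap.range (P.d q r).hom :=
  Submodule.range_liftQ _ _ _

lemma flat_range (hP : ∀ i, Module.Flat A (P.X i)) [Module.Flat A (Coker P q r)] :
    Module.Flat A (LinearMap.range (P.d q r).hom) :=
  have := hP r
  flat_sub_of_flat (f := (LinearMap.range (P.d q r).hom).subtype)
    (g := (LinearMap.range (P.d q r).hom).mkQ) Subtype.val_injective
    (LinearMap.exact_subtype_mkQ _) (Submodule.mkQ_surjective _)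

lemma flat_coker_iff (hP : ∀ i, Module.Flat A (P.X i)) [Module.Flat A (Coker P q r)] :
    Module.Flat A (Coker P p q) ↔ Module.Flat A (Hom' P p q r) := by
  have h1 : Module.Flat A (LinearMap.range (cokerDesc P p q r)) := by
    rw [range_cokerDesc]; exact flat_range P q r hP
  exact ⟨fun _ => flat_sub_of_flat (hom'ToCoker_injective P p q r) (exact_hom'ToCoker P p q r)
      (LinearMap.surjective_rangeRestrict _),
    fun _ => flat_of_flat_sub_quotient (hom'ToCoker_injective P p q r) (exact_hom'ToCoker P p q r)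
      (LinearMap.surjective_rangeRestrict _)⟩

variable {P p q r}

/-- The concrete homology is the homology. -/
noncomputable def hom'Equiv (hqp : q + 1 = p) (hrq : r + 1 = q) :
    Hom' P p q r ≃ₗ[A] P.homology q :=
  have h : LinearMap.ker (clsHom P q r (next_down hrq)).hom = LinearMap.range (toCyc P p q r) :=
    Submodule.ext fun ⟨x, hx⟩ => (cls_eq_zero_iff (prev_down hqp) (next_down hrq) x hx).trans
      ⟨fun ⟨w, hw⟩ => ⟨w, Subtype.ext hw⟩, fun ⟨w, hw⟩ => ⟨w, congrArg Subtype.val hw⟩⟩
  (Submodule.quotEquivOfEq _ _ h.symm).trans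
    ((clsHom P q r (next_down hrq)).hom.quotKerEquivOfSurjective fun a => by
      obtain ⟨x, hx, rfl⟩ := cls_surjective (next_down hrq) a
      exact ⟨⟨x, hx⟩, rfl⟩)

/-- `H_q(P ⊗ A) = H_q(P)`. -/
noncomputable def tUnitIso (q : ℤ) : CohIII.T P q (ModuleCat.of A A) ≅ P.homology q :=
  (HomologicalComplex.homologyFunctor _ _ q).mapIso
    ((NatIso.mapHomologicalComplex (MonoidalCategory.rightUnitorNatIso (ModuleCat.{u} A)) _).app P ≪≫
      (Functor.mapHomologicalComplexIdIso _ _).app P)

/-- The concrete homology is `T_q(A)`. -/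
noncomputable def hom'EquivT (hqp : q + 1 = p) (hrq : r + 1 = q) :
    Hom' P p q r ≃ₗ[A] CohIII.T P q (ModuleCat.of A A) :=
  (hom'Equiv hqp hrq).trans (tUnitIso q).toLinearEquiv.symm

/-- The comparison `Z ⊗ M → H_q(P ⊗ M)`. -/
noncomputable def cycToT (hrq : r + 1 = q) (M : ModuleCat.{u} A) :
    Cyc P q r ⊗[A] M →ₗ[A] CohIII.T P q M :=
  (clsHom (CohIII.tensorObj P M) q r (next_down hrq)).hom ∘ₗ
    ((Cyc P q r).subtype.rTensor M).codRestrict (LinearMap.ker ((P.d q r).hom.rTensor M)) (fun t => by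
      rw [LinearMap.mem_ker, ← LinearMap.comp_apply, ← LinearMap.rTensor_comp,
        show (P.d q r).hom ∘ₗ (Cyc P q r).subtype = 0 from LinearMap.ext fun x => x.2,
        LinearMap.rTensor_zero, LinearMap.zero_apply])

lemma cycToT_surjective (hP : ∀ i, Module.Flat A (P.X i)) (hrq : r + 1 = q)
    [Module.Flat A (Coker P q r)] (M : ModuleCat.{u} A) :
    Function.Surjective (cycToT (P := P) hrq M) := by
  intro a
  obtain ⟨x, hx, rfl⟩ := cls_surjective (next_down hrq) a
  have hui : CAlgX.UniversallyInjective A (LinearMap.range (P.d q r).hom).subtype :=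
    CAlgUI.ui_of_flat_quotient (g := (LinearMap.range (P.d q r).hom).mkQ) Subtype.val_injective
      (LinearMap.exact_subtype_mkQ _) (Submodule.mkQ_surjective _)
  have hxr : (P.d q r).hom.rangeRestrict.rTensor M x = 0 := by
    refine hui M ?_
    rw [← LinearMap.comp_apply, ← LinearMap.rTensor_comp, map_zero]
    exact hx
  have hex : Function.Exact (Cyc P q r).subtype (P.d q r).hom.rangeRestrict := by
    rw [LinearMap.exact_iff, LinearMap.ker_rangeRestrict, Submodule.range_subtype]
  obtain ⟨t, ht⟩ := (rTensor_exact M hex (LinearMap.surjective_rangeRestrict _) x).1 hxr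
  exact ⟨t, congrArg (clsHom (CohIII.tensorObj P M) q r (next_down hrq)).hom (Subtype.ext ht)⟩

lemma ker_cycToT (hP : ∀ i, Module.Flat A (P.X i)) (hqp : q + 1 = p) (hrq : r + 1 = q)
    [Module.Flat A (Coker P q r)] (M : ModuleCat.{u} A) :
    LinearMap.ker (cycToT (P := P) hrq M) =
      LinearMap.ker ((LinearMap.range (toCyc P p q r)).mkQ.rTensor M) := by
  have hex : Function.Exact (Cyc P q r).subtype (P.d q r).hom.rangeRestrict := by
    rw [LinearMap.exact_iff, LinearMap.ker_rangeRestrict, Submodule.range_subtype]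
  have := flat_range P q r hP
  have hui : CAlgX.UniversallyInjective A (Cyc P q r).subtype :=
    CAlgUI.ui_of_flat_quotient Subtype.val_injective hex (LinearMap.surjective_rangeRestrict _)
  have hd : ∀ w, (Cyc P q r).subtype.rTensor M ((toCyc P p q r).rTensor M w) =
      (P.d p q).hom.rTensor M w := fun w => by
    rw [← LinearMap.comp_apply, ← LinearMap.rTensor_comp]
    rfl
  ext t
  rw [LinearMap.mem_ker, LinearMap.mem_ker,
    rTensor_exact M (toCyc P p q r).exact_map_mkQ_range (Submodule.mkQ_surjective _) t]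
  refine (cls_eq_zero_iff (K := CohIII.tensorObj P M) (prev_down hqp) (next_down hrq)
    ((Cyc P q r).subtype.rTensor M t) _).trans ?_
  exact ⟨fun ⟨w, hw⟩ => ⟨w, hui M ((hd w).trans hw)⟩,
    fun ⟨w, hw⟩ => ⟨w, (hd w).symm.trans (congrArg _ hw)⟩⟩

/-- `H ⊗ M ≅ H_q(P ⊗ M)`. -/
noncomputable def hom'TensorEquiv (hP : ∀ i, Module.Flat A (P.X i)) (hqp : q + 1 = p)
    (hrq : r + 1 = q) [Module.Flat A (Coker P q r)] (M : ModuleCat.{u} A) :
    Hom' P p q r ⊗[A] M ≃ₗ[A] CohIII.T P q M :=
  ((((LinearMap.range (toCyc P p q r)).mkQ.rTensor M).quotKerEquivOfSurjective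
      (LinearMap.rTensor_surjective _ (Submodule.mkQ_surjective _))).symm.trans
    (Submodule.quotEquivOfEq _ _ (ker_cycToT hP hqp hrq M).symm)).trans
    ((cycToT hrq M).quotKerEquivOfSurjective (cycToT_surjective hP hrq M))

lemma hom'TensorEquiv_mk (hP : ∀ i, Module.Flat A (P.X i)) (hqp : q + 1 = p)
    (hrq : r + 1 = q) [Module.Flat A (Coker P q r)] (M : ModuleCat.{u} A)
    (t : Cyc P q r ⊗[A] M) :
    hom'TensorEquiv hP hqp hrq M ((LinearMap.range (toCyc P p q r)).mkQ.rTensor M t) =
      cycToT hrq M t := by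
  unfold hom'TensorEquiv
  have e : (((LinearMap.range (toCyc P p q r)).mkQ.rTensor M).quotKerEquivOfSurjective
      (LinearMap.rTensor_surjective _ (Submodule.mkQ_surjective _))).symm
      ((LinearMap.range (toCyc P p q r)).mkQ.rTensor M t) = Submodule.Quotient.mk t := by
    rw [LinearEquiv.symm_apply_eq]
    rfl
  simp only [LinearEquiv.trans_apply]
  rw [e]
  rfl

/-- When `T_q` preserves epimorphisms, it is a tensor functor. -/
noncomputable def tfunIsoTensor (hP : ∀ i, Module.Flat A (P.X i)) (hqp : q + 1 = p)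
    (hrq : r + 1 = q) [Module.Flat A (Coker P q r)] :
    MonoidalCategory.tensorLeft (ModuleCat.of A (Hom' P p q r)) ≅ CohIII.TFun P q :=
  NatIso.ofComponents (fun M => (hom'TensorEquiv hP hqp hrq M).toModuleIso) fun {M N} g => by
    ext1
    refine LinearMap.ext fun x => ?_
    obtain ⟨t, rfl⟩ := LinearMap.rTensor_surjective M
      (Submodule.mkQ_surjective (LinearMap.range (toCyc P p q r))) x
    change hom'TensorEquiv hP hqp hrq N (g.hom.lTensor _ ((LinearMap.range _).mkQ.rTensor M t)) =
      ((CohIII.TFun P q).map g).hom (hom'TensorEquiv hP hqp hrq M ((LinearMap.range _).mkQ.rTensor M t))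
    rw [lTensor_rTensor_comm, hom'TensorEquiv_mk, hom'TensorEquiv_mk]
    refine Eq.trans ?_ (homologyMap_cls (CohIII.tensorMap P g) (next_down hrq) _ _).symm
    exact congrArg (clsHom (CohIII.tensorObj P N) q r (next_down hrq)).hom
      (Subtype.ext (lTensor_rTensor_comm g.hom (Cyc P q r).subtype t).symm)

end Groth.Agent.FlatCxLib
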