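import Mathlib.Algebra.Category.ModuleCat.Monoidal.Closed
import Mathlib.Algebra.Category.ModuleCat.Products
import Mathlib.Algebra.Category.ModuleCat.EpiMono
import Mathlib.Algebra.Homology.ShortComplex.ExactFunctor
import Mathlib.Algebra.Homology.ShortComplex.ModuleCat
import Mathlib.LinearAlgebra.TensorProduct.RightExactness
import Mathlib.LinearAlgebra.FreeModule.Basic
import Mathlib.LinearAlgebra.DirectSum.Finsupp
import Mathlib.CategoryTheory.Linear.LinearFunctor

/-! Linear endofunctors of module categories and the comparison `T(A) ⊗ M → T(M)`. -/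

universe u

open CategoryTheory Limits MonoidalCategory TensorProduct DirectSum

namespace Groth.Agent.FlatCxLib

section Colimit

variable {C D : Type*} [Category C] [Category D] {F G : C ⥤ D} (η : F ⟶ G) {J : Type*} [Category J]
  {K : J ⥤ C} (c : Cocone K) (hc : IsColimit c)

include hc

lemma epi_app_colimit [PreservesColimit K G] (h : ∀ j, Epi (η.app (K.obj j))) : Epi (η.app c.pt) := by
  refine ⟨fun g g' hgg => (isColimitOfPreserves G hc).hom_ext fun j => ?_⟩
  have := h j
  rw [← cancel_epi (η.app (K.obj j))]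
  show η.app (K.obj j) ≫ G.map (c.ι.app j) ≫ g = η.app (K.obj j) ≫ G.map (c.ι.app j) ≫ g'
  erw [← η.naturality_assoc, ← η.naturality_assoc, hgg]
  rfl

lemma isIso_app_colimit [PreservesColimit K F] [PreservesColimit K G]
    (h : ∀ j, IsIso (η.app (K.obj j))) : IsIso (η.app c.pt) := by
  let hF := isColimitOfPreserves F hc
  let hG := isColimitOfPreserves G hc
  have h' : ∀ j, IsIso ((Functor.whiskerLeft K η).app j) := h
  let i : K ⋙ F ≅ K ⋙ G := NatIso.ofComponents (fun j => @asIso _ _ _ _ _ (h' j))
    (fun f => η.naturality _)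
  have : η.app c.pt = (IsColimit.coconePointsIsoOfNatIso hF hG i).hom := by
    refine hF.hom_ext fun j => ?_
    erw [IsColimit.comp_coconePointsIsoOfNatIso_hom hF hG i j]
    exact η.naturality _
  rw [this]
  infer_instance

end Colimit

variable {A : Type u} [CommRing A]

lemma preservesColimits_tensorLeft (N : ModuleCat.{u} A) :
    PreservesColimitsOfSize.{u, u} (tensorLeft N) :=
  (ihom.adjunction N).leftAdjoint_preservesColimits

variable (T : ModuleCat.{u} A ⥤ ModuleCat.{u} A) [T.Additive] [T.Linear A]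

/-- The comparison map. -/
noncomputable abbrev tM (M : ModuleCat.{u} A) :
    TensorProduct A (T.obj (ModuleCat.of A A)) M →ₗ[A] T.obj M :=
  TensorProduct.lift (LinearMap.flip
    ((ModuleCat.homLinearEquiv (S := A)).toLinearMap ∘ₗ Functor.mapLinearMap A T ∘ₗ
      (ModuleCat.homLinearEquiv (S := A)).symm.toLinearMap ∘ₗ
        (LinearMap.ringLmapEquivSelf A A M).symm.toLinearMap))

lemma tM_tmul (M : ModuleCat.{u} A) (y : T.obj (ModuleCat.of A A)) (x : M) :
    tM T M (y ⊗ₜ x) = (T.map (ModuleCat.ofHom ((LinearMap.ringLmapEquivSelf A A M).symm x))).hom y :=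
  rfl

/-- The comparison natural transformation. -/
noncomputable def tNat : tensorLeft (T.obj (ModuleCat.of A A)) ⟶ T where
  app M := ModuleCat.ofHom (tM T M)
  naturality M N f := by
    refine ModuleCat.hom_ext (TensorProduct.ext' fun y x => ?_)
    show tM T N (y ⊗ₜ f.hom x) = (T.map f).hom (tM T M (y ⊗ₜ x))
    rw [tM_tmul, tM_tmul, ← ConcreteCategory.comp_apply, ← T.map_comp]
    refine congrArg (fun g => (T.map g).hom y) ?_
    ext
    simp

lemma bijective_tM_self : Function.Bijective (tM T (ModuleCat.of A A)) := by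
  have e : tM T (ModuleCat.of A A) = (TensorProduct.rid A (T.obj (ModuleCat.of A A))).toLinearMap := by
    refine TensorProduct.ext' fun y a => ?_
    rw [tM_tmul]
    have : ModuleCat.ofHom ((LinearMap.ringLmapEquivSelf A A (ModuleCat.of A A)).symm a) =
        a • 𝟙 (ModuleCat.of A A) := by
      ext
      simp
    rw [this, T.map_smul, T.map_id]
    rfl
  rw [e]
  exact (TensorProduct.rid A _).bijective

variable [∀ J : Type u, PreservesColimitsOfShape (Discrete J) T]

lemma isIso_tNat_free (L : ModuleCat.{u} A) [Module.Free A L] : IsIso ((tNat T).app L) := by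
  classical
  let b := Module.Free.chooseBasis A L
  let Z : Module.Free.ChooseBasisIndex A L → ModuleCat.{u} A := fun _ => ModuleCat.of A A
  have := preservesColimits_tensorLeft (A := A) (T.obj (ModuleCat.of A A))
  have h : IsIso ((tNat T).app (ModuleCat.coproductCocone Z).pt) :=
    isIso_app_colimit (tNat T) _ (ModuleCat.coproductCoconeIsColimit Z) fun _ =>
      (ConcreteCategory.isIso_iff_bijective _).2 (bijective_tM_self T)
  let e : (ModuleCat.coproductCocone Z).pt ≅ L :=
    ((finsuppLEquivDirectSum A A _).symm ≪≫ₗ b.repr.symm).toModuleIso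
  exact (NatTrans.isIso_app_iff_of_iso _ e).1 h

lemma bijective_tM_free (L : ModuleCat.{u} A) [Module.Free A L] : Function.Bijective (tM T L) :=
  have := isIso_tNat_free T L
  (ConcreteCategory.isIso_iff_bijective ((tNat T).app L)).1 inferInstance

/-- A free presentation step. -/
lemma exists_free_cover (M : ModuleCat.{u} A) : ∃ S : ShortComplex (ModuleCat.{u} A),
    S.ShortExact ∧ Module.Free A S.X₂ ∧ Nonempty (S.X₃ ≅ M) := by
  let p : (M →₀ A) →ₗ[A] M := Finsupp.linearCombination A id
  have hp : Epi (ModuleCat.ofHom p) :=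
    (ModuleCat.epi_iff_surjective _).2 (Finsupp.linearCombination_surjective A Function.surjective_id)
  exact ⟨ShortComplex.mk (kernel.ι (ModuleCat.ofHom p)) (ModuleCat.ofHom p) (kernel.condition _),
    { exact := ShortComplex.exact_kernel _ }, Module.Free.of_basis ⟨LinearEquiv.refl A (M →₀ A)⟩, ⟨Iso.refl _⟩⟩

lemma surjective_tM_of_epi (hT : ∀ {X Y : ModuleCat.{u} A} (f : X ⟶ Y), Epi f → Epi (T.map f))
    (M : ModuleCat.{u} A) : Function.Surjective (tM T M) := by
  obtain ⟨S, hS, hF, ⟨e⟩⟩ := exists_free_cover M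
  have := hS.epi_g
  have : Epi (T.map (S.g ≫ e.hom)) := hT _ inferInstance
  intro y
  obtain ⟨z, hz⟩ := (ModuleCat.epi_iff_surjective (T.map (S.g ≫ e.hom))).1 this y
  obtain ⟨w, hw⟩ := (bijective_tM_free T S.X₂).2 z
  refine ⟨((tensorLeft _).map (S.g ≫ e.hom)).hom w, ?_⟩
  refine (ConcreteCategory.congr_hom ((tNat T).naturality (S.g ≫ e.hom)) w).trans ?_
  exact (congrArg _ hw).trans hz

lemma injective_tM_of_halfExact
    (hhe : ∀ S : ShortComplex (ModuleCat.{u} A), S.ShortExact → (S.map T).Exact)
    (hs : ∀ M : ModuleCat.{u} A, Function.Surjective (tM T M)) (M : ModuleCat.{u} A) :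
    Function.Injective (tM T M) := by
  obtain ⟨S, hS, hF, ⟨e⟩⟩ := exists_free_cover M
  suffices hinj : Function.Injective (tM T S.X₃) by
    have h : IsIso ((tNat T).app S.X₃) :=
      (ConcreteCategory.isIso_iff_bijective _).2 ⟨hinj, hs _⟩
    exact ((ConcreteCategory.isIso_iff_bijective ((tNat T).app M)).1
      ((NatTrans.isIso_app_iff_of_iso _ e).1 h)).1
  rw [injective_iff_map_eq_zero]
  intro y hy
  obtain ⟨x, rfl⟩ := LinearMap.lTensor_surjective (T.obj (ModuleCat.of A A)) hS.moduleCat_surjective_g y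
  have hn := fun {X Y : ModuleCat.{u} A} (f : X ⟶ Y) z =>
    ConcreteCategory.congr_hom ((tNat T).naturality f) z
  obtain ⟨z, hz⟩ := (ShortComplex.moduleCat_exact_iff _).1 (hhe S hS) (tM T S.X₂ x)
    ((hn S.g x).symm.trans hy)
  obtain ⟨w, rfl⟩ := hs S.X₁ z
  have hx : S.f.hom.lTensor (T.obj (ModuleCat.of A A)) w = x :=
    (bijective_tM_free T S.X₂).1 ((hn S.f w).trans hz)
  rw [← hx, ← LinearMap.comp_apply, ← LinearMap.lTensor_comp,
    show S.g.hom ∘ₗ S.f.hom = 0 from ModuleCat.hom_ext_iff.1 S.zero, LinearMap.lTensor_zero]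
  rfl

lemma halfExact_and_surjective_of_preservesFiniteColimits [PreservesFiniteColimits T] :
    (∀ S : ShortComplex (ModuleCat.{u} A), S.ShortExact → (S.map T).Exact) ∧
      ∀ M : ModuleCat.{u} A, Function.Surjective (tM T M) :=
  ⟨fun S hS => ((Functor.preservesFiniteColimits_iff_forall_exact_map_and_epi T).1 ‹_› S hS).1,
    surjective_tM_of_epi T fun f _ => inferInstance⟩

/-- The comparison as a natural isomorphism. -/
noncomputable def tIso (h : ∀ M : ModuleCat.{u} A, Function.Bijective (tM T M)) :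
    tensorLeft (T.obj (ModuleCat.of A A)) ≅ T :=
  have : ∀ M, IsIso ((tNat T).app M) := fun M => (ConcreteCategory.isIso_iff_bijective _).2 (h M)
  NatIso.ofComponents (fun M => asIso ((tNat T).app M)) (fun f => (tNat T).naturality f)

omit [T.Additive] [T.Linear A] [∀ J : Type u, PreservesColimitsOfShape (Discrete J) T] in
lemma preservesFiniteColimits_of_iso_tensorLeft (N : ModuleCat.{u} A) (e : T ≅ tensorLeft N) :
    PreservesFiniteColimits T :=
  have := preservesColimits_tensorLeft (A := A) N
  have : PreservesFiniteColimits (tensorLeft N) := PreservesColimitsOfSize.preservesFiniteColimits _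
  preservesFiniteColimits_of_natIso e.symm

lemma rightExact_iff :
    (PreservesFiniteColimits T ↔ ∀ M : ModuleCat.{u} A, Function.Bijective (tM T M)) ∧
    (PreservesFiniteColimits T ↔
      (∀ S : ShortComplex (ModuleCat.{u} A), S.ShortExact → (S.map T).Exact) ∧
        ∀ M : ModuleCat.{u} A, Function.Surjective (tM T M)) := by
  have h1 : (∀ M : ModuleCat.{u} A, Function.Bijective (tM T M)) → PreservesFiniteColimits T :=
    fun h => preservesFiniteColimits_of_iso_tensorLeft T _ (tIso T h).symm
  refine ⟨⟨fun _ => ?_, h1⟩, fun _ => halfExact_and_surjective_of_preservesFiniteColimits T,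
    fun h => h1 fun M => ⟨injective_tM_of_halfExact T h.1 h.2 M, h.2 M⟩⟩
  obtain ⟨h2, h3⟩ := halfExact_and_surjective_of_preservesFiniteColimits T
  exact fun M => ⟨injective_tM_of_halfExact T h2 h3 M, h3 M⟩

omit [∀ J : Type u, PreservesColimitsOfShape (Discrete J) T] in
/-- The class of modules with surjective comparison is closed under extensions. -/
lemma surjective_tM_extension
    (hhe : ∀ S : ShortComplex (ModuleCat.{u} A), S.ShortExact → (S.map T).Exact)
    {S : ShortComplex (ModuleCat.{u} A)} (hS : S.ShortExact)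
    (h1 : Function.Surjective (tM T S.X₁)) (h3 : Function.Surjective (tM T S.X₃)) :
    Function.Surjective (tM T S.X₂) := by
  have hn := fun {X Y : ModuleCat.{u} A} (f : X ⟶ Y) z =>
    ConcreteCategory.congr_hom ((tNat T).naturality f) z
  intro x
  obtain ⟨w, hw⟩ := h3 ((T.map S.g).hom x)
  obtain ⟨v, rfl⟩ := LinearMap.lTensor_surjective (T.obj (ModuleCat.of A A)) hS.moduleCat_surjective_g w
  have hk : (T.map S.g).hom (x - tM T S.X₂ v) = 0 := by
    rw [map_sub, sub_eq_zero]
    exact hw.symm.trans (hn S.g v)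
  obtain ⟨z, hz⟩ := (ShortComplex.moduleCat_exact_iff _).1 (hhe S hS) _ hk
  obtain ⟨r, rfl⟩ := h1 z
  refine ⟨v + S.f.hom.lTensor _ r, ?_⟩
  rw [map_add]
  exact (congrArg _ ((hn S.f r).trans hz)).trans (add_sub_cancel _ _)

end Groth.Agent.FlatCxLib
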